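import Cfsg.Agent.Lib.TwoClassHalf.Classes
import Cfsg.Agent.Lib.Core.Basic

/-!
# The abelian case

With an abelian Sylow 2-subgroup the centre has index four in it.
-/

set_option autoImplicit false

namespace CfsgLib.TwoClassHalf

open Subgroup CfsgLib.ManyPiClasses

universe u

variable {G : Type u} [Group G] [Finite G] {P : Sylow 2 G}

theorem oddCore_eq_bot (hO : Cfsg.pPrimeCore 2 G = ⊥) : Cfsg.oddCore G = ⊥ := hO

/-- The centre is a `2`-group when the core is trivial. -/
theorem center_le_sylow (P : Sylow 2 G) (hO : Cfsg.oddCore G = ⊥) :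
    center G ≤ (P : Subgroup G) := by
  haveI : Fact (Nat.Prime 2) := ⟨Nat.prime_two⟩
  intro x hx
  have hx2 : IsPGroup 2 (zpowers x) := by
    obtain ⟨a, m, hm, hkm⟩ := Nat.exists_eq_two_pow_mul_odd (orderOf_pos x).ne'
    set w := x ^ 2 ^ a with hw
    have hwo : orderOf w = m := by
      rw [hw, orderOf_pow_of_dvd (pow_ne_zero _ two_ne_zero) ⟨m, hkm⟩, hkm,
        Nat.mul_div_cancel_left _ (by positivity)]
    have hwc : zpowers w ≤ center G := zpowers_le.2 (pow_mem hx _)
    haveI : (zpowers w).Normal := ⟨fun k hk g => by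
      rwa [mem_center_iff.1 (hwc hk) g, mul_inv_cancel_right]⟩
    have hle : zpowers w ≤ Cfsg.oddCore G := CfsgLib.Core.le_pPrimeCore
      (Nat.coprime_two_right.2 (by rwa [Nat.card_zpowers, hwo]))
    rw [hO, le_bot_iff, zpowers_eq_bot] at hle
    refine IsPGroup.of_card (n := a) ?_
    rw [Nat.card_zpowers, hkm]
    rw [hle, orderOf_one] at hwo
    rw [← hwo, mul_one]
  obtain ⟨Q, hQ⟩ := hx2.exists_le_sylow
  obtain ⟨g, rfl⟩ := MulAction.exists_smul_eq G Q P
  rw [Sylow.smul_def, Sylow.pointwise_smul_def, Subgroup.mem_pointwise_smul_iff_inv_smul_mem]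
  rw [show (MulAut.conj g)⁻¹ • x = x by
    rw [← map_inv, MulAut.smul_def, MulAut.conj_apply, mem_center_iff.1 hx, mul_inv_cancel_right]]
  exact hQ (mem_zpowers x)

/-- An element of the centre of `P` fixed by the normaliser is central. -/
theorem mem_center_of_fixed (hO : Cfsg.oddCore G = ⊥) {x : G} (hxP : x ∈ (P : Subgroup G))
    (hxc : x ∈ centralizer ((P : Subgroup G) : Set G))
    (hfix : ∀ n ∈ normalizer ((P : Subgroup G) : Set G), n * x * n⁻¹ = x)
    (hout : ∀ g : G, g * x * g⁻¹ ∈ (P : Subgroup G) →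
      g * x * g⁻¹ ∈ centralizer ((P : Subgroup G) : Set G)) : x ∈ center G := by
  refine Iso.mem_center (P := P) hO hxP fun g hg => ?_
  obtain ⟨n, hn, he⟩ := exists_normalizer_conj (P := P) hxc (hout g hg) (g := g) rfl
  rw [← he, hfix n hn]

/-- With abelian `P` the centre has index four in `P`. -/
theorem abelian_case (hO : Cfsg.oddCore G = ⊥)
    (hk : 2 * Nat.card (PClasses 2 G) = Nat.card (P : Subgroup G))
    (hab : ∀ a b : (P : Subgroup G), a * b = b * a) :
    4 * Nat.card (center G) = Nat.card (P : Subgroup G) := by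
  classical
  haveI : Fact (Nat.Prime 2) := ⟨Nat.prime_two⟩
  have hZP := center_le_sylow P hO
  have heq : ∀ {a b : (P : Subgroup G)}, IsConj a b → a = b := fun h => by
    obtain ⟨c, rfl⟩ := isConj_iff.1 h
    rw [hab c, mul_inv_cancel_right]
  have hcent : ∀ a : (P : Subgroup G), (a : G) ∈ centralizer ((P : Subgroup G) : Set G) := fun a =>
    mem_centralizer_iff.2 fun b hb => congrArg Subtype.val (hab ⟨b, hb⟩ a)
  -- the upper bound
  have hΦ : Nat.card (fixedClasses P) ≤ Nat.card (center G) := by
    refine Nat.card_le_card_of_injective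
      (fun C => ⟨((C.1.exists_rep).choose : G), ?_⟩) fun C D h => ?_
    · have hC : ConjClasses.mk (C.1.exists_rep).choose ∈ fixedClasses P := by
        rw [(C.1.exists_rep).choose_spec]; exact C.2
      rw [mk_mem_fixedClasses_iff] at hC
      refine mem_center_of_fixed (P := P) hO (C.1.exists_rep).choose.2 (hcent _)
        (fun n hn => congrArg Subtype.val (heq (hC ⟨n, hn⟩))) fun g hg => hcent ⟨_, hg⟩
    · refine Subtype.ext ?_
      rw [← (C.1.exists_rep).choose_spec, ← (D.1.exists_rep).choose_spec,
        show (C.1.exists_rep).choose = (D.1.exists_rep).choose from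
          Subtype.ext (congrArg (fun z : center G => (z : G)) h)]
  have hkP : Nat.card (ConjClasses (P : Subgroup G)) ≤ Nat.card (P : Subgroup G) :=
    Nat.card_le_card_of_surjective _ ConjClasses.mk_surjective
  have h1 := three_mul_card_le (P := P)
  -- the lower bound
  let j : center G → PClasses 2 G := fun x => toClass P ⟨x, hZP x.2⟩
  have hj : Function.Injective j := fun x y h => by
    have h' : IsConj (x : G) y := ConjClasses.mk_eq_mk_iff_isConj.1 (congrArg Subtype.val h)
    obtain ⟨c, hc⟩ := isConj_iff.1 h'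
    rw [mem_center_iff.1 x.2 c, mul_inv_cancel_right] at hc
    exact Subtype.ext hc
  have hlow : Nat.card (center G) < Nat.card (PClasses 2 G) := by
    by_cases hPc : (P : Subgroup G) ≤ center G
    · have h2 : Nat.card (P : Subgroup G) ≤ Nat.card (PClasses 2 G) := by
        rw [← le_antisymm hZP hPc]
        exact Nat.card_le_card_of_injective j hj
      have h3 : 0 < Nat.card (P : Subgroup G) := Nat.card_pos
      omega
    · haveI := Fintype.ofFinite (center G)
      haveI := Fintype.ofFinite (PClasses 2 G)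
      rw [Nat.card_eq_fintype_card, Nat.card_eq_fintype_card]
      refine Fintype.card_lt_of_injective_of_notMem j hj ?_ (b := toClass P ⟨_,
        (SetLike.not_le_iff_exists.1 hPc).choose_spec.1⟩)
      rintro ⟨x, hx⟩
      have h' : IsConj (x : G) _ := ConjClasses.mk_eq_mk_iff_isConj.1 (congrArg Subtype.val hx)
      obtain ⟨c, hc⟩ := isConj_iff.1 h'
      rw [mem_center_iff.1 x.2 c, mul_inv_cancel_right] at hc
      refine (SetLike.not_le_iff_exists.1 hPc).choose_spec.2 ?_
      have hx2 := x.2
      rw [hc] at hx2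
      exact hx2
  have hdvd : Nat.card (center G) ∣ Nat.card (P : Subgroup G) := card_dvd_of_le hZP
  obtain ⟨e, he⟩ := hdvd
  obtain ⟨t, ht⟩ := IsPGroup.iff_card.1 P.isPGroup'
  obtain ⟨s, hs, hes⟩ := (Nat.dvd_prime_pow Nat.prime_two).1
    (show e ∣ 2 ^ t from ht ▸ Dvd.intro_left _ he.symm)
  generalize Nat.card (center G) = z at *
  rcases s with _ | _ | _ | s
  · rw [hes, pow_zero] at he; omega
  · rw [hes] at he; omega
  · rw [hes] at he; omega
  · have h8 : 8 ≤ e := by
      rw [hes, show s + 1 + 1 + 1 = s + 3 from rfl]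
      rw [pow_add]
      have := Nat.one_le_two_pow (n := s)
      omega
    have := Nat.mul_le_mul_left z h8
    omega

end CfsgLib.TwoClassHalf
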