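import Cfsg.Agent.Lib.CharDegree.Basic
import Mathlib.GroupTheory.ClassEquation

/-!
# Class numbers against the order of the derived subgroup

`4 k(G) ≤ |G| + 3 |G : G'|`, and the exact class number when the derived subgroup has order two.
-/

set_option autoImplicit false

namespace CfsgLib.TwoClassHalf

open CfsgLib.Char CfsgLib.CharIntegral CfsgLib.CharDegree
open scoped commutatorElement

variable {G : Type*} [Group G] [Finite G]

/-- Every nonlinear irreducible character has degree at least two. -/
theorem four_mul_card_conjClasses_le :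
    4 * Nat.card (ConjClasses G) ≤ Nat.card G + 3 * (commutator G).index := by
  classical
  haveI := Fintype.ofFinite (Cfsg.IrrCharacter G)
  choose d hd0 hd using fun χ : Cfsg.IrrCharacter G => IsIrr.exists_degree χ.2
  have hdeg : ∀ χ : Cfsg.IrrCharacter G, Cfsg.charDegree (χ : G → ℂ) = d χ := fun χ => by
    simp [Cfsg.charDegree, hd χ]
  have hs : ∑ χ, d χ ^ 2 = Nat.card G := by
    have h := Char.sum_sq_degree (G := G)
    simp only [hd] at h
    exact_mod_cast h
  have hl : (Finset.univ.filter fun χ => d χ = 1).card = (commutator G).index := by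
    rw [← card_linear, Nat.card_eq_fintype_card, Fintype.card_subtype]
    exact congrArg Finset.card (Finset.filter_congr fun χ _ => by rw [hdeg χ])
  have hk : 4 * Nat.card (ConjClasses G) =
      ∑ χ : Cfsg.IrrCharacter G, 4 := by
    rw [Finset.sum_const, smul_eq_mul, Finset.card_univ, ← card_irrCharacter,
      Nat.card_eq_fintype_card, mul_comm]
  have h3 : ∑ χ : Cfsg.IrrCharacter G, (if d χ = 1 then 3 else 0) =
      3 * (commutator G).index := by
    rw [← Finset.sum_filter, Finset.sum_const, smul_eq_mul, hl, mul_comm]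
  rw [hk, ← hs, ← h3, ← Finset.sum_add_distrib]
  refine Finset.sum_le_sum fun χ _ => ?_
  have := hd0 χ
  by_cases h1 : d χ = 1
  · rw [if_pos h1, h1]
    norm_num
  · rw [if_neg h1, Nat.add_zero]
    calc 4 = 2 ^ 2 := rfl
      _ ≤ d χ ^ 2 := Nat.pow_le_pow_left (by omega) 2

omit [Finite G] in
/-- With a derived subgroup `{1, z}` the class of a non-central `x` is `{x, z x}`. -/
theorem exists_conj_eq_mul {z : G} (hder : ∀ a b : G, ⁅a, b⁆ = 1 ∨ ⁅a, b⁆ = z) {x : G}
    (hx : x ∉ Subgroup.center G) : ∃ g : G, g * x * g⁻¹ = z * x := by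
  by_contra h
  push Not at h
  refine hx (Subgroup.mem_center_iff.2 fun g => ?_)
  have e : g * x * g⁻¹ = ⁅g, x⁆ * x := by rw [commutatorElement_def]; group
  rcases hder g x with h' | h'
  · exact commutatorElement_eq_one_iff_mul_comm.1 h'
  · exact absurd (e.trans (by rw [h'])) (h g)

/-- With a derived subgroup of order two, `2 k(G) = |G| + |Z(G)|`. -/
theorem two_mul_card_conjClasses_eq {z : G} (hz : z ≠ 1)
    (hder : ∀ a b : G, ⁅a, b⁆ = 1 ∨ ⁅a, b⁆ = z) :
    2 * Nat.card (ConjClasses G) = Nat.card G + Nat.card (Subgroup.center G) := by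
  classical
  haveI := Fintype.ofFinite G
  have hsz : ∀ C ∈ (ConjClasses.noncenter G).toFinset, C.carrier.toFinset.card = 2 := by
    intro C hC
    rw [Set.mem_toFinset] at hC
    obtain ⟨x, rfl⟩ := ConjClasses.exists_rep C
    have hx : x ∉ Subgroup.center G := fun h => (ConjClasses.mk_bijOn G).1 h hC
    obtain ⟨g, hg⟩ := exists_conj_eq_mul hder hx
    have he : (ConjClasses.mk x).carrier.toFinset = {x, z * x} := by
      ext y
      simp only [Set.mem_toFinset, ConjClasses.mem_carrier_iff_mk_eq,
        ConjClasses.mk_eq_mk_iff_isConj, Finset.mem_insert, Finset.mem_singleton]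
      constructor
      · intro h
        obtain ⟨c, rfl⟩ := isConj_iff.1 h.symm
        have e : c * x * c⁻¹ = ⁅c, x⁆ * x := by rw [commutatorElement_def]; group
        rcases hder c x with h' | h' <;> rw [e, h'] <;> simp
      · rintro (rfl | rfl)
        · exact IsConj.refl _
        · exact (isConj_iff.2 ⟨g, hg⟩).symm
    rw [he]
    exact Finset.card_pair fun h => hz (right_eq_mul.1 h)
  have h1 := Group.card_center_add_sum_card_noncenter_eq_card G
  rw [Finset.sum_congr rfl hsz, Finset.sum_const, smul_eq_mul, Set.toFinset_card] at h1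
  have h2 : Nat.card (Subgroup.center G) = Fintype.card ↥((ConjClasses.noncenter G)ᶜ) := by
    rw [← Nat.card_eq_fintype_card]
    exact Nat.card_congr ((ConjClasses.mk_bijOn G).equiv _)
  rw [Fintype.card_compl_set] at h2
  have h4 := Fintype.card_subtype_le (fun C => C ∈ ConjClasses.noncenter G)
  rw [← Nat.card_eq_fintype_card, ← Nat.card_eq_fintype_card] at h1
  rw [← Nat.card_eq_fintype_card (α := G)] at h1
  rw [Nat.card_eq_fintype_card (α := ConjClasses G)]
  rw [Nat.card_eq_fintype_card (α := ↥(ConjClasses.noncenter G))] at h1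
  change _ = Fintype.card (ConjClasses G) - _ at h2
  have h4' : Fintype.card ↥(ConjClasses.noncenter G) ≤ Fintype.card (ConjClasses G) :=
    set_fintype_card_le_univ _
  omega

end CfsgLib.TwoClassHalf
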