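import Cfsg.Agent.Lib.TwoClassHalf.Fusion

/-!
# The normaliser on the classes of a Sylow 2-subgroup and class counts
-/

set_option autoImplicit false

namespace CfsgLib.TwoClassHalf

open Subgroup CfsgLib.ManyPiClasses

universe u

variable {G : Type u} [Group G] [Finite G] {P : Sylow 2 G}

variable (P) in
/-- The class in `G` of a class of `P`. -/
def toCls : ConjClasses (P : Subgroup G) → PClasses 2 G :=
  Quotient.lift (toClass P) fun _ _ hab =>
    Subtype.ext (ConjClasses.mk_eq_mk_iff_isConj.mpr ((P : Subgroup G).subtype.map_isConj hab))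

theorem toCls_mk (x : (P : Subgroup G)) : toCls P (ConjClasses.mk x) = toClass P x := rfl

theorem toCls_surjective : Function.Surjective (toCls P) := fun c => by
  obtain ⟨x, rfl⟩ := toClass_surjective P c
  exact ⟨ConjClasses.mk x, rfl⟩

theorem toCls_mk_eq_iff {x y : (P : Subgroup G)} :
    toCls P (ConjClasses.mk x) = toCls P (ConjClasses.mk y) ↔ IsConj (x : G) y :=
  Subtype.ext_iff.trans ConjClasses.mk_eq_mk_iff_isConj

/-- Conjugation by an element of the normaliser. -/
def nconj (n : normalizer ((P : Subgroup G) : Set G)) : (P : Subgroup G) →* (P : Subgroup G) :=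
  ((P : Subgroup G).normalizerMonoidHom n).toMonoidHom

theorem coe_nconj (n : normalizer ((P : Subgroup G) : Set G)) (x : (P : Subgroup G)) :
    (nconj n x : G) = (n : G) * x * (n : G)⁻¹ := rfl

theorem nconj_mul (m n : normalizer ((P : Subgroup G) : Set G)) (x : (P : Subgroup G)) :
    nconj (m * n) x = nconj m (nconj n x) :=
  Subtype.ext (by simp [coe_nconj, mul_assoc])

theorem nconj_iterate (n : normalizer ((P : Subgroup G) : Set G)) (j : ℕ) (x : (P : Subgroup G)) :
    (nconj n)^[j] x = nconj (n ^ j) x := by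
  induction j with
  | zero => exact Subtype.ext (by simp [coe_nconj])
  | succ j ih => rw [Function.iterate_succ_apply', ih, ← nconj_mul, pow_succ']

theorem toCls_nconj (n : normalizer ((P : Subgroup G) : Set G)) (x : (P : Subgroup G)) :
    toCls P (ConjClasses.mk (nconj n x)) = toCls P (ConjClasses.mk x) :=
  toCls_mk_eq_iff.2 (isConj_iff.2 ⟨(n : G)⁻¹, by rw [coe_nconj]; group⟩)

variable (P) in
/-- The index of `P` in its normaliser. -/
noncomputable def nIdx : ℕ :=
  ((P : Subgroup G).subgroupOf (normalizer ((P : Subgroup G) : Set G))).index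

theorem odd_nIdx : Odd (nIdx P) := by
  haveI : Fact (Nat.Prime 2) := ⟨Nat.prime_two⟩
  refine Nat.not_even_iff_odd.1 fun h => P.not_dvd_index
    (dvd_trans h.two_dvd ?_)
  rw [nIdx, ← relIndex]
  exact Subgroup.relIndex_dvd_index_of_le le_normalizer

/-- The power by the index acts as an element of `P`. -/
theorem nconj_pow_nIdx (n : normalizer ((P : Subgroup G) : Set G)) :
    ∃ p : (P : Subgroup G), ∀ x : (P : Subgroup G), nconj (n ^ nIdx P) x = p * x * p⁻¹ := by
  haveI : ((P : Subgroup G).subgroupOf (normalizer ((P : Subgroup G) : Set G))).Normal :=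
    Subgroup.normal_in_normalizer
  exact ⟨⟨_, mem_subgroupOf.1 (pow_index_mem _ n)⟩, fun x => Subtype.ext rfl⟩

variable (P) in
/-- The classes of `P` fixed by the normaliser. -/
def fixedClasses : Set (ConjClasses (P : Subgroup G)) :=
  {C | ∀ n : normalizer ((P : Subgroup G) : Set G), ConjClasses.map (nconj n) C = C}

theorem mk_mem_fixedClasses_iff {x : (P : Subgroup G)} :
    ConjClasses.mk x ∈ fixedClasses P ↔
      ∀ n : normalizer ((P : Subgroup G) : Set G), IsConj (nconj n x) x :=
  forall_congr' fun _ => ConjClasses.mk_eq_mk_iff_isConj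

/-- A class moved by the normaliser lies in an orbit with at least three classes. -/
theorem three_le_fibre {C : ConjClasses (P : Subgroup G)} (hC : C ∉ fixedClasses P) :
    3 ≤ Nat.card {D : ConjClasses (P : Subgroup G) // toCls P D = toCls P C} := by
  classical
  obtain ⟨x, rfl⟩ := ConjClasses.exists_rep C
  rw [mk_mem_fixedClasses_iff] at hC
  push Not at hC
  obtain ⟨n, hn⟩ := hC
  have hsymm : ∀ {m : normalizer ((P : Subgroup G) : Set G)} {a b : (P : Subgroup G)},
      IsConj a b → IsConj (nconj m a) (nconj m b) := fun h => (nconj _).map_isConj h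
  have h2 : ¬ IsConj (nconj n (nconj n x)) x := by
    intro h
    rw [← nconj_mul] at h
    have hpow : ∀ j : ℕ, IsConj (nconj ((n * n) ^ j) x) x := fun j => by
      induction j with
      | zero => rw [pow_zero]; exact isConj_iff.2 ⟨1, by simp [Subtype.ext_iff, coe_nconj]⟩
      | succ j ih =>
        rw [pow_succ, nconj_mul]
        exact (hsymm h).trans ih
    obtain ⟨j, hj⟩ := odd_nIdx (P := P)
    obtain ⟨p, hp⟩ := nconj_pow_nIdx n
    refine hn ?_
    have h1 : IsConj (nconj (n ^ nIdx P) x) (nconj n x) := by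
      rw [hj, pow_succ', pow_mul, nconj_mul, pow_two]
      exact hsymm (hpow j)
    rw [hp] at h1
    exact (h1.symm.trans (isConj_iff.2 ⟨p⁻¹, by group⟩))
  have h3 : ¬ IsConj (nconj n (nconj n x)) (nconj n x) := fun h => hn (by
    have h' := hsymm (m := n⁻¹) h
    rwa [← nconj_mul, ← nconj_mul, ← nconj_mul, inv_mul_cancel, one_mul,
      show nconj (1 : normalizer ((P : Subgroup G) : Set G)) x = x from
        Subtype.ext (by simp [coe_nconj])] at h')
  let T : Finset (ConjClasses (P : Subgroup G)) :=
    {ConjClasses.mk x, ConjClasses.mk (nconj n x), ConjClasses.mk (nconj n (nconj n x))}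
  have hT : T.card = 3 := Finset.card_eq_three.2 ⟨_, _, _,
    fun h => hn (ConjClasses.mk_eq_mk_iff_isConj.1 h.symm),
    fun h => h2 (ConjClasses.mk_eq_mk_iff_isConj.1 h.symm),
    fun h => h3 (ConjClasses.mk_eq_mk_iff_isConj.1 h.symm), rfl⟩
  rw [← hT, ← Nat.card_eq_finsetCard]
  refine Nat.card_le_card_of_injective
    (fun D => ⟨D.1, ?_⟩) (fun a b h => Subtype.ext (congrArg (fun z => z.1) h))
  obtain ⟨D, hD⟩ := D
  simp only [T, Finset.mem_insert, Finset.mem_singleton] at hD
  rcases hD with rfl | rfl | rfl <;> simp [toCls_nconj]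

/-- The basic count. -/
theorem three_mul_card_le :
    3 * Nat.card (PClasses 2 G) ≤
      Nat.card (ConjClasses (P : Subgroup G)) + 2 * Nat.card (fixedClasses P) :=
  mul_card_le (toCls P) toCls_surjective (fixedClasses P) (by norm_num) fun _ h => three_le_fibre h

/-- Classes with a fusion partner outside `R` may be removed. -/
theorem card_add_ncard_le (R : Set (ConjClasses (P : Subgroup G)))
    (h : ∀ C ∈ R, ∃ D ∉ R, toCls P D = toCls P C) :
    Nat.card (PClasses 2 G) + R.ncard ≤ Nat.card (ConjClasses (P : Subgroup G)) := by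
  rw [← Set.ncard_add_ncard_compl R, add_comm R.ncard _]
  refine Nat.add_le_add_right ?_ _
  rw [← Nat.card_coe_set_eq]
  refine Nat.card_le_card_of_surjective (fun D : ↥Rᶜ => toCls P D.1) fun c => ?_
  obtain ⟨C, rfl⟩ := toCls_surjective (P := P) c
  by_cases hC : C ∈ R
  · obtain ⟨D, hD, he⟩ := h C hC
    exact ⟨⟨D, hD⟩, he⟩
  · exact ⟨⟨C, hC⟩, rfl⟩

end CfsgLib.TwoClassHalf
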