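import Cfsg.Agent.Lib.TwoClassHalf.Classes
import Cfsg.Agent.Lib.TwoClassHalf.ClassBound

/-!
# Sylow subgroups with derived subgroup of order two

Basic identities, and the derived involution is not central in the group.
-/

set_option autoImplicit false

namespace CfsgLib.TwoClassHalf

open Subgroup CfsgLib.ManyPiClasses
open scoped commutatorElement

universe u

/-- The derived subgroup is `{1, z}` with `z ≠ 1`. -/
structure DerTwo {Q : Type*} [Group Q] (z : Q) : Prop where
  ne : z ≠ 1
  der : ∀ a b : Q, ⁅a, b⁆ = 1 ∨ ⁅a, b⁆ = z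
  occurs : ∃ a b : Q, ⁅a, b⁆ = z

namespace DerTwo

variable {Q : Type*} [Group Q] {z : Q} (hD : DerTwo z)
include hD

theorem map_eq {α : Q →* Q} (hα : Function.Injective α) : α z = z := by
  obtain ⟨a, b, h⟩ := hD.occurs
  rcases hD.der (α a) (α b) with h' | h'
  · rw [← map_commutatorElement, h] at h'
    exact absurd (hα (h'.trans (map_one α).symm)) hD.ne
  · rwa [← map_commutatorElement, h] at h'

theorem commute (a : Q) : a * z = z * a :=
  mul_inv_eq_iff_eq_mul.1 (hD.map_eq (α := (MulAut.conj a).toMonoidHom) (MulAut.conj a).injective)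

theorem mem_center : z ∈ center Q := mem_center_iff.2 hD.commute

theorem mul_self : z * z = 1 := by
  obtain ⟨a, b, h⟩ := hD.occurs
  rcases hD.der b a with h' | h' <;> rw [← commutatorElement_inv, h] at h'
  · exact absurd (inv_eq_one.1 h') hD.ne
  · nth_rewrite 1 [← h']
    exact inv_mul_cancel z

theorem conj_cases (a x : Q) : a * x * a⁻¹ = x ∨ a * x * a⁻¹ = z * x := by
  have e : a * x * a⁻¹ = ⁅a, x⁆ * x := by rw [commutatorElement_def]; group
  rcases hD.der a x with h | h <;> rw [e, h] <;> simp

theorem eq_mul_of_conj_ne {a x : Q} (h : a * x * a⁻¹ ≠ x) : a * x * a⁻¹ = z * x :=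
  (hD.conj_cases a x).resolve_left h

theorem conj_mul (a x : Q) : a * (z * x) * a⁻¹ = z * (a * x * a⁻¹) := by
  rw [← mul_assoc, hD.commute]; group

theorem sq_mem_center (a : Q) : a * a ∈ center Q := mem_center_iff.2 fun b => by
  symm
  refine mul_inv_eq_iff_eq_mul.1 ?_
  rw [show a * a * b * (a * a)⁻¹ = a * (a * b * a⁻¹) * a⁻¹ by group]
  rcases hD.conj_cases a b with h | h
  · rw [h, h]
  · rw [h, hD.conj_mul, h, ← mul_assoc, hD.mul_self, one_mul]

theorem conj_conj (a x : Q) : a * (a * x * a⁻¹) * a⁻¹ = x := by
  have h := mem_center_iff.1 (hD.sq_mem_center a) x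
  rw [show a * (a * x * a⁻¹) * a⁻¹ = a * a * x * (a * a)⁻¹ by group, ← h, mul_inv_cancel_right]

theorem isConj_mul_of_notMem {x : Q} (hx : x ∉ center Q) : IsConj x (z * x) := by
  obtain ⟨g, hg⟩ := exists_conj_eq_mul hD.der hx
  exact isConj_iff.2 ⟨g, hg⟩

/-- The centraliser of a non-central element has index two. -/
theorem index_centralizer {x : Q} (hx : x ∉ center Q) :
    (centralizer ({x} : Set Q)).index = 2 := by
  obtain ⟨g, hg⟩ := exists_conj_eq_mul hD.der hx
  have hmem : ∀ b : Q, b ∈ centralizer ({x} : Set Q) ↔ b * x * b⁻¹ = x := fun b => by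
    rw [mem_centralizer_singleton_iff, mul_inv_eq_iff_eq_mul]
  refine index_eq_two_iff.2 ⟨g, fun b => ?_⟩
  rw [hmem, hmem, show b * g * x * (b * g)⁻¹ = b * (g * x * g⁻¹) * b⁻¹ by group, hg, hD.conj_mul]
  rcases hD.conj_cases b x with h | h <;> rw [h]
  · exact Or.inr ⟨rfl, fun e => hD.ne (mul_eq_right.1 e)⟩
  · exact Or.inl ⟨by rw [← mul_assoc, hD.mul_self, one_mul], fun e => hD.ne (mul_eq_right.1 e)⟩

end DerTwo

/-- A proper subgroup of index other than two in a finite `2`-group has index at least four. -/
theorem four_mul_card_le {Q : Type*} [Group Q] [Finite Q] (hQ : IsPGroup 2 Q) {H : Subgroup Q}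
    (h1 : H ≠ ⊤) (h2 : H.index ≠ 2) : 4 * Nat.card H ≤ Nat.card Q := by
  haveI : Fact (Nat.Prime 2) := ⟨Nat.prime_two⟩
  obtain ⟨n, hn⟩ := hQ.index H
  have h4 : 4 ≤ H.index := by
    rcases n with _ | _ | n
    · exact absurd (index_eq_one.1 hn) h1
    · exact absurd hn h2
    · rw [hn, pow_succ, pow_succ]
      have := Nat.one_le_two_pow (n := n)
      omega
  rw [← H.index_mul_card]
  exact Nat.mul_le_mul_right _ h4

theorem four_mul_card_center_le {Q : Type*} [Group Q] [Finite Q] (hQ : IsPGroup 2 Q) {z : Q}
    (hD : DerTwo z) : 4 * Nat.card (center Q) ≤ Nat.card Q := by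
  have hnab : ¬ ∀ a b : Q, a * b = b * a := fun h => by
    obtain ⟨a, b, e⟩ := hD.occurs
    exact hD.ne (e ▸ commutatorElement_eq_one_iff_mul_comm.2 (h a b))
  refine four_mul_card_le hQ (fun h => hnab fun a b => ?_) fun h => hnab ?_
  · exact mem_center_iff.1 (h ▸ mem_top b) a
  · haveI : Fact (Nat.Prime 2) := ⟨Nat.prime_two⟩
    haveI : IsCyclic (Q ⧸ center Q) :=
      isCyclic_of_prime_card (p := 2) (by rw [← index_eq_card, h])
    exact (MonoidHom.isMulCommutative_of_isCyclic_of_ker_le_center
      (QuotientGroup.mk' (center Q)) (by rw [QuotientGroup.ker_mk'])).is_comm.comm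

variable {G : Type u} [Group G] [Finite G] {P : Sylow 2 G} {z : (P : Subgroup G)}

theorem nconj_injective (n : normalizer ((P : Subgroup G) : Set G)) :
    Function.Injective (nconj (P := P) n) :=
  ((P : Subgroup G).normalizerMonoidHom n).injective

/-- The classes of central elements of `P`. -/
def centralClasses (P : Sylow 2 G) : Set (ConjClasses (P : Subgroup G)) :=
  ConjClasses.mk '' ((center (P : Subgroup G) : Subgroup (P : Subgroup G)) : Set (P : Subgroup G))

theorem ncard_centralClasses :
    (centralClasses P).ncard = Nat.card (center (P : Subgroup G)) := by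
  rw [centralClasses, Set.ncard_image_of_injOn fun a ha b hb h =>
    (ConjClasses.mk_bijOn _).2.1 ha hb h]
  exact (Nat.card_coe_set_eq _).symm

/-- The elements fixed by the normaliser modulo `z`. -/
def fixedMod (hD : DerTwo z) : Subgroup (P : Subgroup G) :=
  subgroupOfIdempotent
    {x | ∀ n : normalizer ((P : Subgroup G) : Set G), nconj n x = x ∨ nconj n x = z * x}
    ⟨1, fun _ => Or.inl (map_one _)⟩ (by
      ext x
      constructor
      · rintro ⟨a, ha, b, hb, rfl⟩ n
        show nconj n (a * b) = a * b ∨ nconj n (a * b) = z * (a * b)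
        rw [map_mul]
        rcases ha n with h | h <;> rcases hb n with h' | h' <;> rw [h, h']
        · exact Or.inl rfl
        · exact Or.inr (by rw [← mul_assoc, hD.commute, mul_assoc])
        · exact Or.inr (by rw [mul_assoc])
        · exact Or.inl (by
            rw [mul_assoc, ← mul_assoc a, hD.commute, ← mul_assoc, ← mul_assoc, hD.mul_self,
              one_mul])
      · intro hx
        exact ⟨1, fun _ => Or.inl (map_one _), x, hx, one_mul x⟩)

theorem mem_fixedMod {hD : DerTwo z} {x : (P : Subgroup G)} :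
    x ∈ fixedMod hD ↔
      ∀ n : normalizer ((P : Subgroup G) : Set G), nconj n x = x ∨ nconj n x = z * x :=
  Iff.rfl

/-- A normalising element moving `x` at most to `z x` fixes it if `x` is central in `P`. -/
theorem nconj_eq_of_two_cases (hD : DerTwo z) {x : (P : Subgroup G)}
    (hx : x ∈ center (P : Subgroup G)) (n : normalizer ((P : Subgroup G) : Set G))
    (h : nconj n x = x ∨ nconj n x = z * x) : nconj n x = x := by
  refine h.resolve_right fun e => ?_
  have h2 : nconj (n ^ 2) x = x := by
    rw [pow_two, nconj_mul, e, map_mul, hD.map_eq (nconj_injective n), e, ← mul_assoc,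
      hD.mul_self, one_mul]
  have hpow : ∀ j : ℕ, nconj ((n ^ 2) ^ j) x = x := fun j => by
    induction j with
    | zero => exact Subtype.ext (by simp [coe_nconj])
    | succ j ih => rw [pow_succ, nconj_mul, h2, ih]
  obtain ⟨j, hj⟩ := odd_nIdx (P := P)
  obtain ⟨p, hp⟩ := nconj_pow_nIdx n
  have h3 := hp x
  rw [hj, pow_succ', pow_mul, nconj_mul, hpow, e, mem_center_iff.1 hx p,
    mul_inv_cancel_right] at h3
  exact hD.ne (mul_eq_right.1 h3)

/-- The normaliser cannot fix exactly a subgroup of index two modulo `z`. -/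
theorem fixedMod_index (hD : DerTwo z) : (fixedMod hD).index ≠ 2 := by
  intro h2
  have htop : fixedMod hD = ⊤ := eq_top_iff.2 fun x _ => mem_fixedMod.2 fun n => by
    obtain ⟨j, hj⟩ := odd_nIdx (P := P)
    obtain ⟨p, hp⟩ := nconj_pow_nIdx n
    have hid : ∀ a, nconj (n ^ 2) a = a := by
      refine eq_self_of_index_two (α := nconj (n ^ 2)) P.isPGroup' (odd_nIdx (P := P)) (fun a => ?_) h2
        fun a ha => ?_
      · rw [nconj_iterate, ← pow_mul, mul_comm, pow_mul, pow_two, nconj_mul, hp, hp, hD.conj_conj]
      · rw [pow_two, nconj_mul]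
        rcases mem_fixedMod.1 ha n with h | h
        · rw [h, h]
        · rw [h, map_mul, hD.map_eq (nconj_injective n), h, ← mul_assoc, hD.mul_self, one_mul]
    have hpow : ∀ j : ℕ, nconj ((n ^ 2) ^ j) x = x := fun j => by
      induction j with
      | zero => exact Subtype.ext (by simp [coe_nconj])
      | succ j ih => rw [pow_succ, nconj_mul, hid, ih]
    have h3 := hp x
    rw [hj, pow_succ', pow_mul, nconj_mul, hpow] at h3
    rw [h3]
    exact hD.conj_cases p x
  rw [htop, index_top] at h2
  omega

/-- The derived involution is not central in the group. -/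
theorem not_mem_center (hD : DerTwo z)
    (hk : 2 * Nat.card (PClasses 2 G) = Nat.card (P : Subgroup G)) :
    (z : G) ∉ center G := by
  classical
  intro hzc
  have hkP := two_mul_card_conjClasses_eq hD.ne hD.der
  have hzpos : 0 < Nat.card (center (P : Subgroup G)) := Nat.card_pos
  by_cases htop : fixedMod hD = ⊤
  · -- no fusion at all
    have hinj : Function.Injective (toCls P) := fun C D h => by
      obtain ⟨x, rfl⟩ := ConjClasses.exists_rep C
      obtain ⟨y, rfl⟩ := ConjClasses.exists_rep D
      obtain ⟨g, hg⟩ := isConj_iff.1 (toCls_mk_eq_iff.1 h)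
      refine ConjClasses.mk_eq_mk_iff_isConj.2 ?_
      have hP : ∀ w : (P : Subgroup G), ∀ a ∈ (P : Subgroup G),
          a * (w : G) * a⁻¹ = w ∨ a * (w : G) * a⁻¹ = (z : G) * w := fun w a ha =>
        (hD.conj_cases ⟨a, ha⟩ w).imp (congrArg Subtype.val) (congrArg Subtype.val)
      obtain ⟨n, hn, he⟩ := exists_normalizer_conj_mod (P := P) hzc
        (congrArg Subtype.val hD.mul_self) (hP x) (hP y) hg
      have hf : nconj (⟨n, hn⟩ : normalizer ((P : Subgroup G) : Set G)) x = x ∨
          nconj (⟨n, hn⟩ : normalizer ((P : Subgroup G) : Set G)) x = z * x :=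
        mem_fixedMod.1 (htop ▸ mem_top x) _
      have he' : nconj (⟨n, hn⟩ : normalizer ((P : Subgroup G) : Set G)) x = y ∨
          nconj (⟨n, hn⟩ : normalizer ((P : Subgroup G) : Set G)) x = z * y :=
        he.imp Subtype.ext Subtype.ext
      have hy : y = x ∨ y = z * x := by
        rcases he' with h1 | h1 <;> rcases hf with h2 | h2 <;> rw [h2] at h1
        · exact Or.inl h1.symm
        · exact Or.inr h1.symm
        · exact Or.inr (by rw [h1, ← mul_assoc, hD.mul_self, one_mul])
        · exact Or.inl (mul_left_cancel h1).symm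
      by_cases hxc : x ∈ center (P : Subgroup G)
      · have hyc : y ∈ center (P : Subgroup G) := by
          rcases hy with rfl | rfl
          · exact hxc
          · exact mul_mem hD.mem_center hxc
        have hc : ∀ w ∈ center (P : Subgroup G), (w : G) ∈ centralizer ((P : Subgroup G) : Set G) :=
          fun w hw => mem_centralizer_iff.2 fun a ha =>
            congrArg Subtype.val (mem_center_iff.1 hw ⟨a, ha⟩)
        obtain ⟨m, hm, hme⟩ := exists_normalizer_conj (P := P) (hc x hxc) (hc y hyc) hg
        have hfm := nconj_eq_of_two_cases hD hxc ⟨m, hm⟩ (mem_fixedMod.1 (htop ▸ mem_top x) _)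
        rw [show y = nconj (⟨m, hm⟩ : normalizer ((P : Subgroup G) : Set G)) x from
          Subtype.ext hme.symm, hfm]
      · rcases hy with rfl | rfl
        · exact IsConj.refl _
        · exact hD.isConj_mul_of_notMem hxc
    have := Nat.card_le_card_of_injective _ hinj
    omega
  · have h4 := four_mul_card_le P.isPGroup' htop (fixedMod_index hD)
    have h4z := four_mul_card_center_le P.isPGroup' hD
    haveI := Fintype.ofFinite (P : Subgroup G)
    let T : Finset (P : Subgroup G) :=
      Finset.univ.filter fun x => x ∈ fixedMod hD ∧ x ∉ center (P : Subgroup G)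
    have hTcard : T.card ≤ Nat.card (fixedMod hD) := by
      rw [Nat.card_eq_fintype_card, Fintype.card_subtype]
      exact Finset.card_le_card fun x hx => by simp_all [T]
    have hTim : 2 * (T.image ConjClasses.mk).card ≤ T.card := by
      refine Finset.mul_card_image_le_card T 2 fun C hC => ?_
      obtain ⟨x, hxT, rfl⟩ := Finset.mem_image.1 hC
      simp only [T, Finset.mem_filter, Finset.mem_univ, true_and] at hxT
      have hzF : z ∈ fixedMod hD :=
        mem_fixedMod.2 fun n => Or.inl (hD.map_eq (nconj_injective n))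
      refine le_of_eq_of_le
        (Finset.card_pair (a := x) (b := z * x) fun h => hD.ne (right_eq_mul.1 h)).symm ?_
      refine Finset.card_le_card fun w hw => ?_
      simp only [Finset.mem_insert, Finset.mem_singleton] at hw
      simp only [T, Finset.mem_filter, Finset.mem_univ, true_and,
        ConjClasses.mk_eq_mk_iff_isConj]
      rcases hw with rfl | rfl
      · exact ⟨hxT, IsConj.refl _⟩
      · exact ⟨⟨mul_mem hzF hxT.1, fun h => hxT.2 (by
          simpa [← mul_assoc] using mul_mem (inv_mem hD.mem_center) h)⟩,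
          (hD.isConj_mul_of_notMem hxT.2).symm⟩
    have hsub : fixedClasses P ⊆ centralClasses P ∪ ↑(T.image ConjClasses.mk) := by
      intro C hC
      obtain ⟨x, rfl⟩ := ConjClasses.exists_rep C
      by_cases hx : x ∈ center (P : Subgroup G)
      · exact Or.inl ⟨x, hx, rfl⟩
      refine Or.inr (Finset.mem_coe.2 (Finset.mem_image.2 ⟨x, ?_, rfl⟩))
      simp only [T, Finset.mem_filter, Finset.mem_univ, true_and]
      refine ⟨mem_fixedMod.2 fun n => ?_, hx⟩
      obtain ⟨c, hc⟩ := isConj_iff.1 ((mk_mem_fixedClasses_iff.1 hC) n).symm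
      rw [← hc]
      exact hD.conj_cases c x
    have hΦ : Nat.card (fixedClasses P) ≤
        Nat.card (center (P : Subgroup G)) + (T.image ConjClasses.mk).card := by
      rw [Nat.card_coe_set_eq, ← ncard_centralClasses, ← Set.ncard_coe_finset (T.image _)]
      exact (Set.ncard_le_ncard hsub (Set.toFinite _)).trans (Set.ncard_union_le _ _)
    have h1 := three_mul_card_le (P := P)
    omega

end CfsgLib.TwoClassHalf
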