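import Cfsg.Agent.Lib.GW.DGroup.Main
import Cfsg.Agent.Lib.GW.Final
import Cfsg.Agent.Lib.Perm.Alt2520.Eight
import Cfsg.Agent.Lib.Classical.SmallIso

/-!
# Trivial core and a Sylow 2-subgroup of order four, or dihedral of order eight with two classes
-/

set_option autoImplicit false

namespace CfsgLib.TwoClassHalf

open Subgroup CfsgLib.GW CfsgLib.GW.DGroup CfsgLib.GW.KFactsProof CfsgLib.Known.AutPSL

universe u

variable {K : Type u} [Group K] [Finite K]

/-- The conclusion of the theorem. -/
def Concl (K : Type u) [Group K] : Prop :=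
  Nonempty (K ≃* ↥(alternatingGroup (Fin 4))) ∨ Nonempty (K ≃* Equiv.Perm (Fin 4)) ∨
    ∃ S : Subgroup K, S.Normal ∧ IsSimpleGroup ↥S ∧ ¬ IsMulCommutative ↥S ∧
      Subgroup.centralizer (S : Set K) = ⊥ ∧
      ∃ (F : Type) (_ : Field F) (_ : Fintype F),
        3 < Fintype.card F ∧ (Fintype.card F % 8 = 3 ∨ Fintype.card F % 8 = 5) ∧
          Nonempty (↥S ≃* Matrix.ProjectiveSpecialLinearGroup (Fin 2) F)

/-- The Klein shape gives `A₄` or `S₄`. -/
theorem klein_case (h : KFactsProof.Klein K) : Concl K := by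
  classical
  haveI : Fact (Nat.Prime 3) := ⟨Nat.prime_three⟩
  obtain ⟨V, hVn, hV4, hV2, hVC⟩ := h.exists_four
  haveI := hVn
  obtain ⟨x, hx⟩ := exists_prime_orderOf_dvd_card' 3 h.three_dvd
  set R := zpowers x with hR
  have hR3 : Nat.card R = 3 := by rw [hR, Nat.card_zpowers, hx]
  have hxV : x ∉ V := fun hxV => by
    have h3 := Subgroup.orderOf_dvd_natCard V hxV
    rw [hx, hV4] at h3
    omega
  have hdisj : V ⊓ R = ⊥ := inf_eq_bot_of_coprime (by rw [hV4, hR3]; norm_num)
  have hcomm : ∀ a ∈ V, ∀ b ∈ V, a * b = b * a := fun a ha b hb => by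
    have h2 := hV2 _ (mul_mem ha hb)
    calc a * b = (a * b)⁻¹ := (inv_eq_of_mul_eq_one_right h2).symm
      _ = b * a := by rw [mul_inv_rev, inv_eq_of_mul_eq_one_right (hV2 a ha),
        inv_eq_of_mul_eq_one_right (hV2 b hb)]
  -- `x` has no fixed point on `V`
  have hfix : ∀ v ∈ V, x * v * x⁻¹ = v → v = 1 := fun v hv hvx => by
    by_contra hv1
    refine hxV ?_
    rw [← SetLike.mem_coe, ← hVC]
    refine mem_centralizer_iff.2 fun w hw => (mul_inv_eq_iff_eq_mul.1 ?_).symm
    have hall : ∀ a ∈ V, ∀ b ∈ V, b ≠ 1 → a ≠ 1 → a ≠ b → ∀ c ∈ V,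
        c = 1 ∨ c = b ∨ c = a ∨ c = b * a := by
      intro a ha b hb hb1 ha1 hab c hc
      haveI := Fintype.ofFinite V
      have hba1 : b * a ≠ 1 := fun e => hab (by
        rw [← inv_eq_of_mul_eq_one_right e, inv_eq_of_mul_eq_one_right (hV2 b hb)])
      let T : Finset V := {1, ⟨b, hb⟩, ⟨a, ha⟩, ⟨b * a, mul_mem hb ha⟩}
      have hT : T.card = 4 := by
        simp only [T]
        rw [Finset.card_insert_of_notMem, Finset.card_insert_of_notMem, Finset.card_pair]
        · exact fun e => hb1 (right_eq_mul.1 (congrArg Subtype.val e))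
        · simp only [Finset.mem_insert, Finset.mem_singleton, not_or, Subtype.ext_iff]
          exact ⟨Ne.symm hab, fun e => ha1 (left_eq_mul.1 e)⟩
        · simp only [Finset.mem_insert, Finset.mem_singleton, not_or, Subtype.ext_iff, coe_one]
          exact ⟨Ne.symm hb1, Ne.symm ha1, Ne.symm hba1⟩
      have hTu : T = Finset.univ := Finset.eq_univ_of_card T (by
        rw [hT, ← Nat.card_eq_fintype_card, hV4])
      have := hTu ▸ Finset.mem_univ (⟨c, hc⟩ : V)
      simpa [T, Subtype.ext_iff] using this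
    by_cases hw1 : w = 1
    · rw [hw1]; group
    by_cases hwv : w = v
    · rw [hwv, hvx]
    rcases hall w hw v hv hv1 hw1 hwv _ (hVn.conj_mem w hw x) with e | e | e | e
    · exact absurd (conj_eq_one_iff.1 e) hw1
    · exact absurd ((MulAut.conj x).injective
        (show MulAut.conj x w = MulAut.conj x v by simp [e, hvx])) hwv
    · exact e
    · exfalso
      have e2 : x * (x * w * x⁻¹) * x⁻¹ = w := by
        rw [e, show x * (v * w) * x⁻¹ = (x * v * x⁻¹) * (x * w * x⁻¹) by group, hvx, e, ← mul_assoc,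
          hV2 v hv, one_mul]
      have hx3 : x * x * x = 1 := by rw [← pow_three', ← hx, pow_orderOf_eq_one]
      have e3 : x * w * x⁻¹ = w := by
        conv_lhs => rw [← e2]
        rw [show x * (x * (x * w * x⁻¹) * x⁻¹) * x⁻¹ = x * x * x * w * (x * x * x)⁻¹ by group, hx3]
        group
      exact hv1 (mul_eq_right.1 (e.symm.trans e3))
  set N := normalizer (R : Set K) with hN
  have hRN : R ≤ N := le_normalizer
  have hVN : V ⊓ N = ⊥ := by
    refine eq_bot_iff.2 fun v hv => hfix v hv.1 ?_
    have h1 : v * x * v⁻¹ ∈ R := (mem_normalizer_iff.1 hv.2 x).1 (mem_zpowers x)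
    have h2 : v * x * v⁻¹ * x⁻¹ ∈ V ⊓ R := ⟨by
      rw [show v * x * v⁻¹ * x⁻¹ = v * (x * v⁻¹ * x⁻¹) by group]
      exact mul_mem hv.1 (hVn.conj_mem _ (inv_mem hv.1) x), R.mul_mem h1 (R.inv_mem (mem_zpowers x))⟩
    rw [hdisj, mem_bot, mul_inv_eq_one] at h2
    calc x * v * x⁻¹ = v * x * v⁻¹ * v * x⁻¹ := by rw [h2]
      _ = v := by group
  set L := R ⊔ V with hL
  have hL12 : Nat.card L = 12 := by
    rw [hL, CfsgLib.Core.card_sup_of_coprime _ _ (by rw [normalizer_eq_top V]; exact le_top)
      (by rw [hR3, hV4]; norm_num), hR3, hV4]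
  obtain ⟨a, ha⟩ : 12 ∣ Nat.card K := hL12 ▸ card_subgroup_dvd_card L
  have ha2 : a = 1 ∨ a = 2 := by
    have h24 := h.dvd
    rw [ha, show (24 : ℕ) = 12 * 2 from rfl] at h24
    exact (Nat.dvd_prime Nat.prime_two).1 (Nat.dvd_of_mul_dvd_mul_left (by norm_num) h24)
  have hia : L.index = a := by
    have hi := L.card_mul_index
    rw [hL12, ha] at hi
    omega
  haveI hLn : L.Normal := by
    rcases ha2 with e | e
    · rw [Subgroup.index_eq_one.1 (hia.trans e)]; infer_instance
    · exact Subgroup.normal_of_index_eq_two (hia.trans e)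
  -- Frattini
  have hNV : N ⊔ V = ⊤ := by
    have hRL : R ≤ L := le_sup_left
    have hidx : ¬ 3 ∣ (R.subgroupOf L).index := by
      have h1 := (R.subgroupOf L).card_mul_index
      rw [Nat.card_congr (subgroupOfEquivOfLe hRL).toEquiv, hR3, hL12] at h1
      omega
    let RS : Sylow 3 L :=
      ((IsPGroup.of_card (n := 1) (by rw [hR3, pow_one]) : IsPGroup 3 R).comap_of_injective
        L.subtype L.subtype_injective).toSylow hidx
    have hf := Sylow.normalizer_sup_eq_top RS
    rw [show (RS : Subgroup L).map L.subtype = R by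
      show (R.subgroupOf L).map L.subtype = R
      rw [Subgroup.subgroupOf_map_subtype, inf_eq_left.2 hRL]] at hf
    refine top_le_iff.1 (hf.symm.le.trans (sup_le le_sup_left ?_))
    rw [hL]
    exact sup_le (hRN.trans le_sup_left) le_sup_right
  have hN4 : N.index = 4 := by
    rw [← hV4]
    refine (IsComplement'.index_eq_card ?_)
    refine (isComplement'_of_disjoint_and_mul_eq_univ (disjoint_iff.2 hVN) ?_)
    rw [← Subgroup.normal_mul, sup_comm, hNV, coe_top]
  have hcore : N.normalCore = ⊥ := by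
    have hd : Disjoint V N.normalCore :=
      disjoint_iff.2 (le_bot_iff.1 (hVN ▸ inf_le_inf_left V N.normalCore_le))
    refine eq_bot_iff.2 fun m hm => ?_
    have hmV : m ∈ V := by
      rw [← SetLike.mem_coe, ← hVC]
      exact mem_centralizer_iff.2 fun v hv =>
        (commute_of_normal_of_disjoint V N.normalCore hVn N.normalCore_normal hd v m hv hm).eq
    exact hVN ▸ (⟨hmV, N.normalCore_le hm⟩ : m ∈ V ⊓ N)
  let e4 : K ⧸ N ≃ Fin 4 := Finite.equivFinOfCardEq (by rw [← Subgroup.index]; exact hN4)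
  let ρ : K →* Equiv.Perm (Fin 4) :=
    e4.permCongrHom.toMonoidHom.comp (MulAction.toPermHom K (K ⧸ N))
  have hρ : Function.Injective ρ := by
    refine e4.permCongrHom.injective.comp ((MonoidHom.ker_eq_bot_iff _).1 ?_)
    rw [← N.normalCore_eq_ker, hcore]
  rcases ha2 with e | e
  · refine Or.inl ⟨(MonoidHom.ofInjective hρ).trans (MulEquiv.subgroupCongr
      (Equiv.Perm.eq_alternatingGroup_of_index_eq_two ?_))⟩
    have h1 := ρ.range.card_mul_index
    rw [← Nat.card_congr (MonoidHom.ofInjective hρ).toEquiv, ha, e, Nat.card_perm, Nat.card_fin,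
      show Nat.factorial 4 = 24 from rfl] at h1
    omega
  · refine Or.inr (Or.inl ⟨MulEquiv.ofBijective ρ
      ((Nat.bijective_iff_injective_and_card _).2 ⟨hρ, ?_⟩)⟩)
    rw [ha, e, Nat.card_perm, Nat.card_fin]
    rfl

/-- A linear socle with a four-group as Sylow 2-subgroup. -/
theorem linear_end {F : Type} [Field F] [Fintype F] {L : Subgroup K} [L.Normal] {e : L ≃* PSL 2 F}
    (hL : IsLin L e) (h8 : ¬ 8 ∣ Nat.card L) : Concl K := by
  haveI := CfsgLib.Classical.isSimpleGroup_PSL_two (F := F) hL.four_le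
  haveI : Nontrivial L := e.toEquiv.nontrivial
  haveI : IsSimpleGroup L :=
    IsSimpleGroup.isSimpleGroup_of_surjective e.symm.toMonoidHom e.symm.surjective
  obtain ⟨k, hk⟩ := hL.odd
  have h4q := hL.four_le
  have hc := CfsgLib.Classical.Two.card_PSL_two (F := F)
  rw [hk] at hc
  rw [show Nat.gcd 2 (2 * k + 1 - 1) = 2 by
    rw [Nat.add_sub_cancel]; exact Nat.gcd_eq_left (Dvd.intro k rfl)] at hc
  have hcard : Nat.card L = (2 * k + 1) * (2 * (k * (k + 1))) := by
    rw [Nat.card_congr e.toEquiv]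
    have : (2 * k + 1) ^ 2 - 1 = 4 * (k * (k + 1)) := by
      rw [show (2 * k + 1) ^ 2 = 4 * (k * (k + 1)) + 1 by ring]; omega
    rw [this] at hc
    linarith [hc]
  have hmod : Fintype.card F % 8 = 3 ∨ Fintype.card F % 8 = 5 := by
    rw [hk]
    obtain ⟨j, hj⟩ : ∃ j, k = 4 * j ∨ k = 4 * j + 1 ∨ k = 4 * j + 2 ∨ k = 4 * j + 3 :=
      ⟨k / 4, by omega⟩
    rcases hj with rfl | rfl | rfl | rfl
    · exact absurd ⟨(2 * (4 * j) + 1) * (j * (4 * j + 1)), by rw [hcard]; ring⟩ h8
    · left; omega
    · right; omega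
    · exact absurd ⟨(2 * (4 * j + 3) + 1) * ((4 * j + 3) * (j + 1)), by rw [hcard]; ring⟩ h8
  refine Or.inr (Or.inr ⟨L, inferInstance, inferInstance, fun hcomm => ?_, hL.cen, F, inferInstance,
    inferInstance, by omega, hmod, ⟨e⟩⟩)
  haveI := hcomm
  letI : CommGroup L := { (inferInstance : Group L) with mul_comm := hcomm.is_comm.comm }
  have hp : (Nat.card L).Prime := IsSimpleGroup.prime_card
  rw [hcard] at hp
  have hk1 : 2 ≤ k * (k + 1) := by nlinarith
  exact Nat.not_prime_mul (show 2 * k + 1 ≠ 1 by omega)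
    (show 2 * (k * (k + 1)) ≠ 1 by omega) hp

/-- Sylow subgroup of order four. -/
theorem four_end (hO : Cfsg.oddCore K = ⊥) (hK2 : ¬ IsPGroup 2 K) (T : Sylow 2 K)
    (hT : Nat.card (T : Subgroup K) = 4) : Concl K := by
  classical
  haveI : Fact (Nat.Prime 2) := ⟨Nat.prime_two⟩
  have h8 : ¬ 8 ∣ Nat.card K := fun h => by
    have hm := T.card_eq_multiplicity
    rw [hT] at hm
    have hf := (Nat.Prime.pow_dvd_iff_le_factorization (n := Nat.card K) (k := 3) Nat.prime_two
      Nat.card_pos.ne').1 h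
    have := Nat.pow_le_pow_right (show 1 ≤ 2 by norm_num) hf
    omega
  have hnc : ¬ IsCyclic (T : Subgroup K) := fun hc => hK2 (by
    have h4 : 2 ∣ Nat.card K := (show 2 ∣ 4 by norm_num).trans (hT ▸ card_subgroup_dvd_card _)
    have h2 : (Nat.card K).minFac = 2 := (Nat.minFac_eq_two_iff _).2 h4
    have hcompl := hc.isComplement' h2
    set τ := MonoidHom.transferSylow T (hc.normalizer_le_centralizer h2)
    have hbot : τ.ker = ⊥ := le_bot_iff.1 (hO ▸ CfsgLib.Core.le_pPrimeCore
      (Nat.coprime_two_right.2 (Nat.odd_iff.2 ?_)))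
    · rw [hbot, isComplement'_bot_left] at hcompl
      exact (hcompl ▸ T.2 : IsPGroup 2 (⊤ : Subgroup K)).of_equiv topEquiv
    · have h1 := hcompl.card_mul
      rw [hT] at h1
      rcases Nat.mod_two_eq_zero_or_one (Nat.card τ.ker) with e | e
      · exact absurd ⟨Nat.card τ.ker / 2, by omega⟩ h8
      · exact e)
  have hsq : ∀ t : (T : Subgroup K), t * t = 1 := fun t => by
    have hd : orderOf t ∣ 4 := hT ▸ orderOf_dvd_natCard t
    have hne : orderOf t ≠ 4 := fun e => hnc (isCyclic_of_orderOf_eq_card t (e.trans hT.symm))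
    have hle := Nat.le_of_dvd (by norm_num) hd
    rw [← pow_two]
    refine orderOf_dvd_iff_pow_eq_one.1 ?_
    generalize orderOf t = m at hd hne hle
    interval_cases m <;> omega
  obtain ⟨a, ha⟩ : ∃ a : (T : Subgroup K), a ≠ 1 := by
    by_contra hcon
    push Not at hcon
    haveI : Subsingleton (T : Subgroup K) := ⟨fun p q => (hcon p).trans (hcon q).symm⟩
    rw [Nat.card_unique] at hT
    omega
  obtain ⟨b, hb⟩ : ∃ b, b ∉ zpowers a := by
    by_contra hcon
    push Not at hcon
    exact hnc ⟨⟨a, fun y => hcon y⟩⟩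
  obtain ⟨e⟩ := CfsgLib.TwoGroups.nonempty_mulEquiv_dihedralGroup (n := 2)
    (orderOf_eq_prime (by rw [pow_two]; exact hsq a) ha) (hsq b) hb
    (by
      have h1 := hsq (b * a)
      have hai : a⁻¹ = a := inv_eq_of_mul_eq_one_right (hsq a)
      have hbi : b⁻¹ = b := inv_eq_of_mul_eq_one_right (hsq b)
      rw [hai, hbi]
      calc b * a * b = b * a * (b * a) * a⁻¹ := by group
        _ = a := by rw [h1, one_mul, hai]) (by rw [hT])
  have A := ambient_of_sylow_core hO T le_rfl (n := 1) e
  by_cases hs : Group.IsSolvable K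
  · rcases A.solvable_shape with h | h
    · exact absurd h hK2
    · exact klein_case h
  · rcases shape_of_gw CfsgLib.GW.Final.gwStatement A hs with ⟨F, iF, iF', L, hLn, eL, hL⟩ | ⟨⟨e7⟩⟩
    · haveI := hLn
      exact linear_end hL fun h => h8 (h.trans (card_subgroup_dvd_card L))
    · exfalso
      refine h8 ?_
      rw [Nat.card_congr e7.toEquiv, nat_card_alternatingGroup, Nat.card_fin]
      decide

/-- Sylow subgroup dihedral of order eight, with two classes of involutions. -/
theorem eight_end (hO : Cfsg.oddCore K = ⊥) (hK2 : ¬ IsPGroup 2 K) (T : Sylow 2 K)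
    (hT : Nat.card (T : Subgroup K) = 8)
    (hinv : ∃ x : (T : Subgroup K), x * x = 1 ∧ x ∉ center (T : Subgroup K))
    (hcls : ¬ ∀ a b : K, orderOf a = 2 → orderOf b = 2 → IsConj a b) : Concl K := by
  classical
  haveI : Fact (Nat.Prime 2) := ⟨Nat.prime_two⟩
  obtain ⟨x, hx2, hxc⟩ := hinv
  obtain ⟨e⟩ : Nonempty ((T : Subgroup K) ≃* DihedralGroup 4) := by
    rcases CfsgLib.Perm.Alt2520.eight_cases hT with h | h | ⟨⟨eQ⟩⟩
    · exact absurd (mem_center_iff.2 fun y => h y x) hxc
    · exact h
    · exfalso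
      have key : ∀ q : QuaternionGroup 2, q * q = 1 → ∀ r : QuaternionGroup 2, r * q = q * r := by
        decide
      refine hxc (mem_center_iff.2 fun y => eQ.injective ?_)
      rw [map_mul, map_mul]
      exact key _ (by rw [← map_mul, hx2, map_one]) _
  have A := ambient_of_sylow_core hO T (show 1 ≤ 2 by norm_num) (n := 2) e
  by_cases hs : Group.IsSolvable K
  · rcases A.solvable_shape with h | h
    · exact absurd h hK2
    · exact klein_case h
  · rcases shape_of_gw CfsgLib.GW.Final.gwStatement A hs with ⟨F, iF, iF', L, hLn, eL, hL⟩ | ⟨⟨e7⟩⟩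
    · haveI := hLn
      refine linear_end hL fun h => hcls fun a b ha hb => ?_
      have hodd : ¬ 2 ∣ L.index := fun h2 => by
        have h16 : 16 ∣ Nat.card K := by
          rw [← L.card_mul_index]
          exact Nat.mul_dvd_mul h h2
        have hm := T.card_eq_multiplicity
        rw [hT] at hm
        have hf := (Nat.Prime.pow_dvd_iff_le_factorization (n := Nat.card K) (k := 4) Nat.prime_two
          Nat.card_pos.ne').1 h16
        have := Nat.pow_le_pow_right (show 1 ≤ 2 by norm_num) hf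
        omega
      have hmem : ∀ c : K, orderOf c = 2 → c ∈ L := fun c hc => by
        rw [← QuotientGroup.eq_one_iff, ← orderOf_eq_one_iff]
        refine Nat.eq_one_of_dvd_coprimes ((Nat.prime_two.coprime_iff_not_dvd).2 hodd) ?_
          (L.index_eq_card ▸ orderOf_dvd_natCard _)
        rw [← hc]; exact orderOf_map_dvd (QuotientGroup.mk' L) c
      exact L.subtype.map_isConj
        (isConj_involutions A hL (a := ⟨a, hmem a ha⟩) (b := ⟨b, hmem b hb⟩)
          (by rwa [← Subgroup.orderOf_coe]) (by rwa [← Subgroup.orderOf_coe]))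
    · refine absurd ?_ hcls
      haveI := alternatingGroup.isSimpleGroup (α := Fin 7) (by simp)
      haveI : Nontrivial K := e7.toEquiv.nontrivial
      haveI : IsSimpleGroup K :=
        IsSimpleGroup.isSimpleGroup_of_surjective e7.symm.toMonoidHom e7.symm.surjective
      refine CfsgLib.TwoGroups.Dihedral.all_conj_of_no_index_two (n := 2) (S := T)
        (f := (T : Subgroup K).subtype.comp e.symm.toMonoidHom)
        ((T : Subgroup K).subtype_injective.comp e.symm.injective)
        (by rw [MonoidHom.range_comp, MonoidHom.range_eq_top.2 e.symm.surjective,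
          ← MonoidHom.range_eq_map, Subgroup.range_subtype]) (by norm_num) fun H hH => ?_
      haveI : H.Normal := Subgroup.normal_of_index_eq_two hH
      rcases Normal.eq_bot_or_eq_top (inferInstance : H.Normal) with h | h
      · rw [h, index_bot, Nat.card_congr e7.toEquiv, nat_card_alternatingGroup, Nat.card_fin] at hH
        exact absurd hH (by decide)
      · rw [h, index_top] at hH; omega

end CfsgLib.TwoClassHalf
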