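import Cfsg.Agent.Lib.ZStar.FusionCenter
import Cfsg.Agent.Lib.ClassCount.ManyPiClasses

/-!
# Fusion of central and almost central elements of a Sylow 2-subgroup

Isolated elements are central modulo the core, fusion in the centre and fusion modulo a central
involution generating the derived subgroup are controlled by the normaliser, and a normalising
element of odd order modulo `P` cannot fix exactly a subgroup of index two.
-/

set_option autoImplicit false

namespace CfsgLib.TwoClassHalf

open Subgroup CfsgLib.ZStar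

universe u

variable {G : Type u} [Group G] [Finite G] (P : Sylow 2 G)

/-- `x` is conjugate to no other element of `P`. -/
def Iso (x : G) : Prop := ∀ g : G, g * x * g⁻¹ ∈ (P : Subgroup G) → g * x * g⁻¹ = x

variable {P}

/-- An element of a `2`-subgroup of `C` lies in a conjugate by `C` of a Sylow subgroup inside `C`. -/
theorem exists_conj_mem_sylow {C : Subgroup G} {g : G}
    (hgP : ∀ a ∈ (P : Subgroup G), g * a * g⁻¹ ∈ C)
    {U : Subgroup G} (hU : IsPGroup 2 U) (hUC : U ≤ C) :
    ∃ c ∈ C, ∀ u ∈ U, (c * g)⁻¹ * u * (c * g) ∈ (P : Subgroup G) := by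
  haveI : Fact (Nat.Prime 2) := ⟨Nat.prime_two⟩
  have hle : ((g • P : Sylow 2 G) : Subgroup G) ≤ C := by
    intro y hy
    rw [Sylow.smul_def, Sylow.pointwise_smul_def, Subgroup.mem_pointwise_smul_iff_inv_smul_mem] at hy
    have h := hgP _ hy
    simpa [mul_assoc] using h
  obtain ⟨R, hR⟩ := (hU.comap_of_injective C.subtype C.subtype_injective).exists_le_sylow
  obtain ⟨c, hc⟩ := MulAction.exists_smul_eq C ((g • P : Sylow 2 G).subtype hle) R
  refine ⟨c, c.2, fun u hu => ?_⟩
  have hm : (⟨u, hUC hu⟩ : C) ∈ (R : Subgroup C) := hR hu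
  rw [← hc, Sylow.smul_def, Sylow.pointwise_smul_def,
    Subgroup.mem_pointwise_smul_iff_inv_smul_mem, Sylow.coe_subtype, mem_subgroupOf,
    Sylow.smul_def, Sylow.pointwise_smul_def, Subgroup.mem_pointwise_smul_iff_inv_smul_mem] at hm
  simpa [mul_assoc] using hm

theorem Iso.commute {x : G} (hxP : x ∈ (P : Subgroup G)) (hx : Iso P x) {a : G}
    (ha : a ∈ (P : Subgroup G)) : a * x = x * a :=
  mul_inv_eq_iff_eq_mul.1 (hx a (mul_mem (mul_mem ha hxP) (inv_mem ha)))

/-- An isolated element has isolated powers. -/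
theorem Iso.fixed {x : G} (hxP : x ∈ (P : Subgroup G)) (hx : Iso P x) :
    Fixed (P : Subgroup G) x := by
  refine ⟨hxP, fun g k hy => ?_⟩
  set y := g * x ^ k * g⁻¹ with hydef
  have hxc : ∀ a ∈ (P : Subgroup G), Commute a x := fun a ha => hx.commute hxP ha
  have hC : ∀ a ∈ (P : Subgroup G), g * a * g⁻¹ ∈ centralizer ({y} : Set G) := fun a ha => by
    rw [mem_centralizer_singleton_iff]
    exact (((hxc a ha).pow_right k).map (MulAut.conj g).toMonoidHom).eq
  obtain ⟨c, hc, hmem⟩ := exists_conj_mem_sylow hC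
    (U := (P : Subgroup G) ⊓ centralizer ({y} : Set G)) (P.2.to_le inf_le_left) inf_le_right
  have hxU : x ∈ (P : Subgroup G) ⊓ centralizer ({y} : Set G) :=
    ⟨hxP, mem_centralizer_singleton_iff.2 (hxc y hy).symm.eq⟩
  have h1 := hx (c * g)⁻¹ (by simpa [mul_assoc] using hmem x hxU)
  rw [inv_inv] at h1
  have h2 : Commute (c * g) x := by
    rw [Commute, SemiconjBy]
    nth_rewrite 1 [← h1]
    group
  have h3 : c * y * c⁻¹ = y := by
    rw [mem_centralizer_singleton_iff.1 hc, mul_inv_cancel_right]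
  calc y = c * y * c⁻¹ := h3.symm
    _ = c * g * x ^ k * (c * g)⁻¹ := by rw [hydef]; group
    _ = x ^ k := by rw [(h2.pow_right k).eq, mul_inv_cancel_right]

/-- An isolated element is central when the core is trivial. -/
theorem Iso.mem_center (hO : Cfsg.oddCore G = ⊥) {x : G} (hxP : x ∈ (P : Subgroup G))
    (hx : Iso P x) : x ∈ center G := by
  refine mem_center_iff.2 fun g => ?_
  have h := commutator_mem_oddCore_of_fixed P (hx.fixed hxP) g
  rw [hO, mem_bot, mul_inv_eq_one, mul_inv_eq_iff_eq_mul] at h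
  exact h.symm

/-- Fusion in the centraliser of `P` is controlled by the normaliser. -/
theorem exists_normalizer_conj {x y : G} (hx : x ∈ centralizer (P : Set G))
    (hy : y ∈ centralizer (P : Set G)) {g : G} (hg : g * x * g⁻¹ = y) :
    ∃ n ∈ normalizer (P : Set G), n * x * n⁻¹ = y := by
  haveI : Fact (Nat.Prime 2) := ⟨Nat.prime_two⟩
  obtain ⟨n, hn, he⟩ := P.conj_eq_normalizer_conj_of_mem_centralizer x g⁻¹ hx
    (by rwa [inv_inv, hg])
  rw [inv_inv, hg] at he
  exact ⟨n⁻¹, inv_mem hn, by rw [inv_inv]; exact he.symm⟩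

/-- Fusion of elements centralised by `P` modulo a central element `z` of order two. -/
theorem exists_normalizer_conj_mod {z : G} (hzc : z ∈ center G) (hz2 : z * z = 1) {x y g : G}
    (hxP : ∀ a ∈ (P : Subgroup G), a * x * a⁻¹ = x ∨ a * x * a⁻¹ = z * x)
    (hyP : ∀ a ∈ (P : Subgroup G), a * y * a⁻¹ = y ∨ a * y * a⁻¹ = z * y)
    (hg : g * x * g⁻¹ = y) :
    ∃ n ∈ normalizer (P : Set G), n * x * n⁻¹ = y ∨ n * x * n⁻¹ = z * y := by
  have hzg : ∀ h : G, h * z = z * h := fun h => mem_center_iff.1 hzc h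
  have hpres : ∀ h w : G, h * (z * w) * h⁻¹ = z * (h * w * h⁻¹) := fun h w => by
    rw [← mul_assoc, hzg h]; group
  set H : Subgroup G := subgroupOfIdempotent
    {h : G | h * y * h⁻¹ = y ∨ h * y * h⁻¹ = z * y} ⟨1, Or.inl (by group)⟩ (by
      ext h
      constructor
      · rintro ⟨a, ha, b, hb, rfl⟩
        have e : a * b * y * (a * b)⁻¹ = a * (b * y * b⁻¹) * a⁻¹ := by group
        show a * b * y * (a * b)⁻¹ = y ∨ a * b * y * (a * b)⁻¹ = z * y
        rw [e]
        rcases hb with hb | hb <;> rw [hb]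
        · exact ha
        · rw [hpres]
          rcases ha with ha | ha <;> rw [ha]
          · exact Or.inr rfl
          · exact Or.inl (by rw [← mul_assoc, hz2, one_mul])
      · intro hh
        exact ⟨1, Or.inl (by group), h, hh, one_mul h⟩) with hH
  have hmem : ∀ h : G, h ∈ H ↔ (h * y * h⁻¹ = y ∨ h * y * h⁻¹ = z * y) := fun h => Iff.rfl
  have hgP : ∀ a ∈ (P : Subgroup G), g * a * g⁻¹ ∈ H := fun a ha => by
    rw [hmem, show g * a * g⁻¹ * y * (g * a * g⁻¹)⁻¹ = g * (a * x * a⁻¹) * g⁻¹ by
      rw [← hg]; group]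
    rcases hxP a ha with h | h <;> rw [h]
    · exact Or.inl hg
    · exact Or.inr (by rw [hpres, hg])
  obtain ⟨c, hc, hcP⟩ := exists_conj_mem_sylow hgP P.2 (fun a ha => (hmem a).2 (hyP a ha))
  refine ⟨c * g, ?_, ?_⟩
  · have h : (c * g)⁻¹ ∈ normalizer (P : Set G) := by
      refine mem_normalizer_iff.2 fun a => ⟨fun ha => ?_, fun ha => ?_⟩
      · simpa [mul_assoc] using hcP a ha
      · have hmap : (P : Subgroup G).map (MulAut.conj (c * g)⁻¹).toMonoidHom = P := by
          refine Subgroup.eq_of_le_of_card_ge ?_ (le_of_eq ?_)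
          · rintro _ ⟨b, hb, rfl⟩
            simpa [mul_assoc] using hcP b hb
          · exact Nat.card_congr ((P : Subgroup G).equivMapOfInjective _
              (MulAut.conj (c * g)⁻¹).injective).toEquiv
        obtain ⟨b, hb, e⟩ : (c * g)⁻¹ * a * (c * g)⁻¹⁻¹ ∈
            (P : Subgroup G).map (MulAut.conj (c * g)⁻¹).toMonoidHom := by rwa [hmap]
        have : b = a := (MulAut.conj (c * g)⁻¹).injective e
        rwa [← this]
    simpa using inv_mem h
  · rw [show c * g * x * (c * g)⁻¹ = c * y * c⁻¹ by rw [← hg]; group]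
    exact (hmem c).1 hc

omit [Finite G] in
/-- An endomorphism of odd period of a `2`-group fixing a subgroup of index two pointwise is
trivial. -/
theorem eq_self_of_index_two {A : Type*} [Group A] (hA : IsPGroup 2 A) {α : A →* A} {k : ℕ}
    (hk : Odd k) (hper : ∀ a, α^[k] a = a) {H : Subgroup A} (hH : H.index = 2)
    (hfix : ∀ h ∈ H, α h = h) (a : A) : α a = a := by
  by_cases ha : a ∈ H
  · exact hfix a ha
  have hαa : α a ∉ H := fun h => ha (by
    have h1 : ∀ j : ℕ, α^[j + 1] a = α a := fun j => by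
      induction j with
      | zero => rfl
      | succ j ih => rw [Function.iterate_succ_apply', ih, hfix _ h]
    have h2 := hper a
    obtain ⟨j, hj⟩ := hk
    rw [hj, h1] at h2
    rwa [← h2])
  set f := a⁻¹ * α a with hf
  have hfH : f ∈ H := (Subgroup.mul_mem_iff_of_index_two hH).2
    (iff_of_false (fun h => ha (inv_mem_iff.1 h)) hαa)
  have hit : ∀ j : ℕ, α^[j] a = a * f ^ j := fun j => by
    induction j with
    | zero => simp
    | succ j ih =>
      rw [Function.iterate_succ_apply', ih, map_mul, map_pow, hfix f hfH, pow_succ', ← mul_assoc,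
        show a * f = α a by rw [hf, mul_inv_cancel_left]]
  have h1 : f ^ k = 1 := mul_eq_left.1 ((hit k).symm.trans (hper a))
  obtain ⟨j, hj⟩ := hA f
  have h2 : orderOf f = 1 := Nat.eq_one_of_dvd_coprimes
    ((Nat.coprime_two_left.2 hk).pow_left j)
    (orderOf_dvd_of_pow_eq_one hj) (orderOf_dvd_of_pow_eq_one h1)
  exact (inv_mul_eq_one.1 (orderOf_eq_one_iff.1 h2)).symm

end CfsgLib.TwoClassHalf
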