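import Cfsg.Agent.Lib.TwoClassHalf.Derived
import Cfsg.Agent.Lib.TwoClassHalf.Abelian

/-!
# The non-abelian case

The centre has index eight in the Sylow subgroup and modulo the centre not all involutions are
conjugate.
-/

set_option autoImplicit false

namespace CfsgLib.TwoClassHalf

open Subgroup CfsgLib.ManyPiClasses
open scoped commutatorElement

universe u

variable {G : Type u} [Group G] [Finite G] {P : Sylow 2 G} {z : (P : Subgroup G)}

theorem coe_mem_centralizer {w : (P : Subgroup G)} (hw : w ∈ center (P : Subgroup G)) :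
    (w : G) ∈ centralizer ((P : Subgroup G) : Set G) :=
  mem_centralizer_iff.2 fun a ha => congrArg Subtype.val (mem_center_iff.1 hw ⟨a, ha⟩)

/-- The derived involution is fused to a non-central involution with abelian centraliser in `P`. -/
theorem exists_partner (hO : Cfsg.oddCore G = ⊥) (hD : DerTwo z) (hzG : (z : G) ∉ center G) :
    ∃ x : (P : Subgroup G), IsConj (z : G) x ∧ x * x = 1 ∧ x ∉ center (P : Subgroup G) ∧
      ∀ a b : (P : Subgroup G), a * x = x * a → b * x = x * b → a * b = b * a := by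
  have hiso : ¬ Iso P (z : G) := fun h => hzG (h.mem_center hO z.2)
  simp only [Iso, not_forall] at hiso
  obtain ⟨g, hgP, hgne⟩ := hiso
  set x : (P : Subgroup G) := ⟨g * z * g⁻¹, hgP⟩ with hxdef
  have hxz : x ≠ z := fun h => hgne (congrArg Subtype.val h)
  have hzG2 : (z : G) * z = 1 := congrArg Subtype.val hD.mul_self
  refine ⟨x, isConj_iff.2 ⟨g, rfl⟩, Subtype.ext ?_, fun hxc => ?_, fun a b ha hb => ?_⟩
  · show g * z * g⁻¹ * (g * z * g⁻¹) = 1
    rw [show g * (z : G) * g⁻¹ * (g * z * g⁻¹) = g * ((z : G) * z) * g⁻¹ by group, hzG2]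
    group
  · obtain ⟨n, hn, he⟩ := exists_normalizer_conj (P := P) (coe_mem_centralizer hD.mem_center)
      (coe_mem_centralizer hxc) (g := g) rfl
    refine hxz (Subtype.ext (?_ : (x : G) = z))
    rw [show (x : G) = n * z * n⁻¹ from he.symm]
    exact congrArg Subtype.val (hD.map_eq (nconj_injective (⟨n, hn⟩ :
      normalizer ((P : Subgroup G) : Set G))))
  · have hgC : ∀ w ∈ (P : Subgroup G), g * w * g⁻¹ ∈ centralizer ({(x : G)} : Set G) := by
      intro w hw
      rw [mem_centralizer_singleton_iff]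
      have hcomm : Commute w (z : G) := congrArg Subtype.val (hD.commute ⟨w, hw⟩)
      exact (hcomm.map (MulAut.conj g).toMonoidHom).eq
    obtain ⟨c, hc, hmem⟩ := exists_conj_mem_sylow (P := P)
      (C := centralizer ({(x : G)} : Set G)) (g := g) hgC
      (U := (P : Subgroup G) ⊓ centralizer ({(x : G)} : Set G)) (P.2.to_le inf_le_left) inf_le_right
    have ha' := hmem a ⟨a.2, mem_centralizer_singleton_iff.2 (congrArg Subtype.val ha)⟩
    have hb' := hmem b ⟨b.2, mem_centralizer_singleton_iff.2 (congrArg Subtype.val hb)⟩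
    refine commutatorElement_eq_one_iff_mul_comm.1 ?_
    rcases hD.der a b with h | h
    · exact h
    exfalso
    have e : ((⁅(⟨_, ha'⟩ : (P : Subgroup G)), ⟨_, hb'⟩⁆ : (P : Subgroup G)) : G) =
        (c * g)⁻¹ * (z : G) * (c * g) := by
      rw [← h]
      simp only [commutatorElement_def, Subgroup.coe_mul, Subgroup.coe_inv]
      group
    rcases hD.der (⟨_, ha'⟩ : (P : Subgroup G)) ⟨_, hb'⟩ with h' | h' <;> rw [h'] at e
    · refine hD.ne (Subtype.ext (?_ : (z : G) = 1))
      rw [show (z : G) = (c * g) * ((c * g)⁻¹ * z * (c * g)) * (c * g)⁻¹ by group, ← e]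
      simp
    · refine hxz (Subtype.ext ?_).symm
      calc (z : G) = (c * g) * ((c * g)⁻¹ * z * (c * g)) * (c * g)⁻¹ := by group
        _ = c * (x : G) * c⁻¹ := by rw [← e, hxdef]; group
        _ = x := by rw [mem_centralizer_singleton_iff.1 hc, mul_inv_cancel_right]

/-- The centre of `P` has index four. -/
theorem four_mul_card_center_eq (hD : DerTwo z) {x : (P : Subgroup G)}
    (hxc : x ∉ center (P : Subgroup G))
    (hab : ∀ a b : (P : Subgroup G), a * x = x * a → b * x = x * b → a * b = b * a) :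
    4 * Nat.card (center (P : Subgroup G)) = Nat.card (P : Subgroup G) := by
  set A := centralizer ({x} : Set (P : Subgroup G)) with hA
  have hA2 : A.index = 2 := hD.index_centralizer hxc
  obtain ⟨y, hy⟩ : ∃ y, y ∉ A := by
    by_contra h
    push Not at h
    rw [show A = ⊤ from eq_top_iff.2 fun w _ => h w, index_top] at hA2
    omega
  have hAx : ∀ a, a ∈ A ↔ a * x = x * a := fun a => mem_centralizer_singleton_iff
  have hyc : y ∉ center (P : Subgroup G) := fun h =>
    hy ((hAx y).2 (mem_center_iff.1 h x).symm)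
  have hle : A ⊓ centralizer ({y} : Set (P : Subgroup G)) ≤ center (P : Subgroup G) := by
    rintro a ⟨ha, ha'⟩
    refine mem_center_iff.2 fun b => ?_
    have hAc : ∀ b ∈ A, b * a = a * b := fun b hb => hab b a ((hAx b).1 hb) ((hAx a).1 ha)
    have hya : a * y = y * a := mem_centralizer_singleton_iff.1 ha'
    by_cases hb : b ∈ A
    · exact hAc b hb
    · have hbh : b * y⁻¹ ∈ A := (mul_mem_iff_of_index_two hA2).2
        (iff_of_false hb fun h => hy (inv_mem_iff.1 h))
      calc b * a = b * y⁻¹ * (y * a) := by group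
        _ = b * y⁻¹ * a * y := by rw [← hya]; group
        _ = a * b := by rw [hAc _ hbh]; group
  have h1 : (center (P : Subgroup G)).index ≤ 4 := by
    have h := Subgroup.index_inf_le (H := A) (K := centralizer ({y} : Set (P : Subgroup G)))
    rw [hA2, hD.index_centralizer hyc] at h
    exact (Nat.le_of_dvd (Nat.pos_of_ne_zero Subgroup.index_ne_zero_of_finite)
      (index_dvd_of_le hle)).trans h
  have h2 := Nat.mul_le_mul_right (Nat.card (center (P : Subgroup G))) h1
  rw [index_mul_card] at h2
  exact le_antisymm (four_mul_card_center_le P.isPGroup' hD) h2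

variable (P) in
/-- The elements of `Z(P)` fixed by the normaliser. -/
def fixedCenter : Subgroup (center (P : Subgroup G)) :=
  ⨅ n : normalizer ((P : Subgroup G) : Set G),
    MonoidHom.eqLocus ((nconj n).comp (center (P : Subgroup G)).subtype)
      (center (P : Subgroup G)).subtype

theorem mem_fixedCenter {w : center (P : Subgroup G)} :
    w ∈ fixedCenter P ↔ ∀ n : normalizer ((P : Subgroup G) : Set G), nconj n (w : (P : Subgroup G)) = w := by
  rw [fixedCenter, Subgroup.mem_iInf]
  rfl

theorem nconj_mem_center (n : normalizer ((P : Subgroup G) : Set G)) {w : (P : Subgroup G)}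
    (hw : w ∈ center (P : Subgroup G)) : nconj n w ∈ center (P : Subgroup G) := by
  refine mem_center_iff.2 fun b => ?_
  obtain ⟨a, rfl⟩ : ∃ a, nconj n a = b :=
    ⟨nconj n⁻¹ b, by rw [← nconj_mul, mul_inv_cancel]; exact Subtype.ext (by simp [coe_nconj])⟩
  rw [← map_mul, ← map_mul, mem_center_iff.1 hw a]

theorem isConj_eq_of_center {a b : (P : Subgroup G)} (h : IsConj a b)
    (hb : b ∈ center (P : Subgroup G)) : a = b := by
  obtain ⟨c, hc⟩ := isConj_iff.1 h.symm
  rwa [mem_center_iff.1 hb c, mul_inv_cancel_right, eq_comm] at hc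

/-- The normaliser centralises `Z(P)`. -/
theorem center_fixed (hD : DerTwo z) (hk : 2 * Nat.card (PClasses 2 G) = Nat.card (P : Subgroup G))
    {x : (P : Subgroup G)} (hzx : IsConj (z : G) x) (hxc : x ∉ center (P : Subgroup G))
    (h4 : 4 * Nat.card (center (P : Subgroup G)) = Nat.card (P : Subgroup G)) :
    fixedCenter P = ⊤ := by
  classical
  by_contra htop
  haveI : Fact (Nat.Prime 2) := ⟨Nat.prime_two⟩
  have hpow : ∀ (w : (P : Subgroup G)), w ∈ (center (P : Subgroup G)) → ∀ n : normalizer ((P : Subgroup G) : Set G),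
      nconj (n ^ nIdx P) w = w := fun w hw n => by
    obtain ⟨p, hp⟩ := nconj_pow_nIdx n
    rw [hp, mem_center_iff.1 hw p, mul_inv_cancel_right]
  have hidx : (fixedCenter P).index ≠ 2 := fun h2 => htop (eq_top_iff.2 fun w _ =>
    mem_fixedCenter.2 fun n => by
      let α : (center (P : Subgroup G)) →* (center (P : Subgroup G)) := ((nconj n).comp (center (P : Subgroup G)).subtype).codRestrict (center (P : Subgroup G)) fun v => nconj_mem_center n v.2
      have hα : ∀ (j : ℕ) (v : (center (P : Subgroup G))), ((α^[j] v : (center (P : Subgroup G))) : (P : Subgroup G)) = (nconj n)^[j] v := by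
        intro j v
        induction j with
        | zero => rfl
        | succ j ih =>
          rw [Function.iterate_succ_apply', Function.iterate_succ_apply', ← ih]
          rfl
      exact congrArg Subtype.val (eq_self_of_index_two (P.isPGroup'.to_subgroup (center (P : Subgroup G))) (α := α)
        (odd_nIdx (P := P)) (fun v => Subtype.ext (by rw [hα, nconj_iterate, hpow _ v.2])) h2
        (fun v hv => Subtype.ext (mem_fixedCenter.1 hv n)) w))
  have h4F := four_mul_card_le (P.isPGroup'.to_subgroup (center (P : Subgroup G))) htop hidx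
  -- count the classes met by `(center (P : Subgroup G))`
  let f : (center (P : Subgroup G)) → Set.range fun w : (center (P : Subgroup G)) => toCls P (ConjClasses.mk (w : (P : Subgroup G))) :=
    Set.rangeFactorization _
  have hA : 3 * Nat.card (Set.range fun w : (center (P : Subgroup G)) => toCls P (ConjClasses.mk (w : (P : Subgroup G)))) ≤
      Nat.card (center (P : Subgroup G)) + 2 * Nat.card (fixedCenter P) :=
    mul_card_le f Set.rangeFactorization_surjective (fixedCenter P : Set (center (P : Subgroup G))) (by norm_num) fun w hw => by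
      have hmk : ConjClasses.mk (w : (P : Subgroup G)) ∉ fixedClasses P := fun h => hw
        (mem_fixedCenter.2 fun n => isConj_eq_of_center ((mk_mem_fixedClasses_iff.1 h) n) w.2)
      obtain ⟨n, hn⟩ : ∃ n : normalizer ((P : Subgroup G) : Set G),
          nconj n (w : (P : Subgroup G)) ≠ w := by
        by_contra hcon
        push Not at hcon
        exact hw (mem_fixedCenter.2 hcon)
      set w1 : (center (P : Subgroup G)) := ⟨nconj n w, nconj_mem_center n w.2⟩
      set w2 : (center (P : Subgroup G)) := ⟨nconj n w1, nconj_mem_center n w1.2⟩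
      have h10 : w1 ≠ w := fun h => hn (congrArg Subtype.val h)
      have h21 : w2 ≠ w1 := fun h => hn (nconj_injective n (congrArg Subtype.val h))
      have h20 : w2 ≠ w := fun h => hn (by
        have h' : nconj (n ^ 2) (w : (P : Subgroup G)) = w := by
          rw [pow_two, nconj_mul]; exact congrArg Subtype.val h
        have hp : ∀ j : ℕ, nconj ((n ^ 2) ^ j) (w : (P : Subgroup G)) = w := fun j => by
          induction j with
          | zero => exact Subtype.ext (by simp [coe_nconj])
          | succ j ih => rw [pow_succ, nconj_mul, h', ih]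
        obtain ⟨j, hj⟩ := odd_nIdx (P := P)
        have h3 := hpow _ w.2 n
        rwa [hj, pow_succ', pow_mul, nconj_mul, hp] at h3)
      have hT : ({w, w1, w2} : Finset (center (P : Subgroup G))).card = 3 :=
        Finset.card_eq_three.2 ⟨_, _, _, h10.symm, h20.symm, h21.symm, rfl⟩
      rw [← hT, ← Nat.card_eq_finsetCard]
      refine Nat.card_le_card_of_injective (fun v => ⟨v.1, ?_⟩)
        (fun a b h => Subtype.ext (congrArg (fun t => t.1) h))
      obtain ⟨v, hv⟩ := v
      simp only [Finset.mem_insert, Finset.mem_singleton] at hv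
      refine Subtype.ext ?_
      show toCls P (ConjClasses.mk (v : (P : Subgroup G))) = toCls P (ConjClasses.mk (w : (P : Subgroup G)))
      rcases hv with rfl | rfl | rfl <;> simp [w1, w2, toCls_nconj]
  -- every class is met by `(center (P : Subgroup G))` or by a non-central class other than that of `x`
  have hS : Nat.card (PClasses 2 G) ≤
      Nat.card (Set.range fun w : (center (P : Subgroup G)) => toCls P (ConjClasses.mk (w : (P : Subgroup G)))) +
        (centralClasses P ∪ {ConjClasses.mk x})ᶜ.ncard := by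
    rw [← Nat.card_coe_set_eq, ← Nat.card_sum]
    refine Nat.card_le_card_of_surjective
      (Sum.elim (fun c => c.1) (fun D => toCls P D.1)) fun c => ?_
    obtain ⟨C, rfl⟩ := toCls_surjective (P := P) c
    by_cases hC : C ∈ centralClasses P ∪ {ConjClasses.mk x}
    · rcases hC with ⟨w, hw, rfl⟩ | hC
      · exact ⟨Sum.inl ⟨_, ⟨w, hw⟩, rfl⟩, rfl⟩
      · rw [Set.mem_singleton_iff.1 hC]
        exact ⟨Sum.inl ⟨_, ⟨z, hD.mem_center⟩, rfl⟩, toCls_mk_eq_iff.2 hzx⟩
    · exact ⟨Sum.inr ⟨C, hC⟩, rfl⟩
  have hU : (centralClasses P ∪ {ConjClasses.mk x}).ncard = Nat.card (center (P : Subgroup G)) + 1 := by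
    rw [Set.union_singleton, Set.ncard_insert_of_notMem ?_ (Set.toFinite _), ncard_centralClasses]
    rintro ⟨w, hw, hwx⟩
    exact hxc (isConj_eq_of_center (ConjClasses.mk_eq_mk_iff_isConj.1 hwx.symm) hw ▸ hw)
  have h5 := Set.ncard_add_ncard_compl (centralClasses P ∪ {ConjClasses.mk x})
  have hkP := two_mul_card_conjClasses_eq hD.ne hD.der
  omega

/-- The centre of the group has index eight in `P`. -/
theorem eight_mul_card_center (hO : Cfsg.oddCore G = ⊥) (hD : DerTwo z)
    (hk : 2 * Nat.card (PClasses 2 G) = Nat.card (P : Subgroup G))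
    (hzG : (z : G) ∉ center G)
    (h4 : 4 * Nat.card (center (P : Subgroup G)) = Nat.card (P : Subgroup G))
    (hfix : fixedCenter P = ⊤) :
    8 * Nat.card (center G) = Nat.card (P : Subgroup G) := by
  classical
  have hZP := center_le_sylow P hO
  set I := (center G).subgroupOf (P : Subgroup G) with hI
  have hIc : Nat.card I = Nat.card (center G) :=
    Nat.card_congr (subgroupOfEquivOfLe hZP).toEquiv
  have hIZ : I ≤ center (P : Subgroup G) := fun w hw => mem_center_iff.2 fun b =>
    Subtype.ext (mem_center_iff.1 (mem_subgroupOf.1 hw) b)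
  have huniq : ∀ u v : (P : Subgroup G), u ∈ center (P : Subgroup G) → v ∈ center (P : Subgroup G) →
      IsConj (u : G) v → u = v := fun u v hu hv h => by
    obtain ⟨g, hg⟩ := isConj_iff.1 h
    obtain ⟨n, hn, he⟩ := exists_normalizer_conj (P := P) (coe_mem_centralizer hu)
      (coe_mem_centralizer hv) hg
    have := mem_fixedCenter.1 (hfix ▸ mem_top (⟨u, hu⟩ : center (P : Subgroup G))) ⟨n, hn⟩
    exact this.symm.trans (Subtype.ext he)
  have hpartner : ∀ u : (P : Subgroup G), u ∈ center (P : Subgroup G) → u ∉ I →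
      ∃ y : (P : Subgroup G), y ∉ center (P : Subgroup G) ∧ IsConj (u : G) y := fun u hu huI => by
    have hiso : ¬ Iso P (u : G) := fun h => huI (mem_subgroupOf.2 (h.mem_center hO u.2))
    simp only [Iso, not_forall] at hiso
    obtain ⟨g, hgP, hgne⟩ := hiso
    exact ⟨⟨_, hgP⟩, fun hy => hgne (congrArg Subtype.val
      (huniq u ⟨_, hgP⟩ hu hy (isConj_iff.2 ⟨g, rfl⟩))).symm, isConj_iff.2 ⟨g, rfl⟩⟩
  choose y hy hyu using hpartner
  let D := {u : center (P : Subgroup G) // (u : (P : Subgroup G)) ∉ I}
  let R : Set (ConjClasses (P : Subgroup G)) :=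
    Set.range fun u : D => ConjClasses.mk (y u.1 u.1.2 u.2)
  have hR := card_add_ncard_le (P := P) R ?_
  swap
  · rintro _ ⟨u, rfl⟩
    refine ⟨ConjClasses.mk (u.1 : (P : Subgroup G)), ?_, toCls_mk_eq_iff.2 (hyu _ u.1.2 u.2)⟩
    rintro ⟨v, hv⟩
    exact hy _ v.1.2 v.2 (isConj_eq_of_center (ConjClasses.mk_eq_mk_iff_isConj.1 hv) u.1.2 ▸ u.1.2)
  have hRc : R.ncard = Nat.card D := by
    rw [← Nat.card_coe_set_eq]
    refine (Nat.card_congr (Equiv.ofInjective _ fun u v h => Subtype.ext (Subtype.ext ?_))).symm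
    have h' : IsConj (y u.1 u.1.2 u.2 : G) (y v.1 v.1.2 v.2) :=
      (P : Subgroup G).subtype.map_isConj (ConjClasses.mk_eq_mk_iff_isConj.1 h)
    exact huniq _ _ u.1.2 v.1.2 ((hyu _ u.1.2 u.2).trans (h'.trans (hyu _ v.1.2 v.2).symm))
  have hsplit : Nat.card D + Nat.card I = Nat.card (center (P : Subgroup G)) := by
    have e : {u : center (P : Subgroup G) // (u : (P : Subgroup G)) ∈ I} ≃ I :=
      { toFun := fun u => ⟨u.1, u.2⟩
        invFun := fun u => ⟨⟨u, hIZ u.2⟩, u.2⟩
        left_inv := fun _ => rfl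
        right_inv := fun _ => rfl }
    rw [add_comm, ← Nat.card_congr e, ← Nat.card_sum, Nat.card_congr (Equiv.sumCompl _)]
  have hne : I ≠ center (P : Subgroup G) := fun h =>
    hzG (mem_subgroupOf.1 (show z ∈ I by rw [h]; exact hD.mem_center))
  have h2I : 2 * Nat.card I ≤ Nat.card (center (P : Subgroup G)) := by
    obtain ⟨e, he⟩ := card_dvd_of_le hIZ
    rcases e with _ | _ | e
    · have := Nat.card_pos (α := center (P : Subgroup G)); omega
    · exact absurd (eq_of_le_of_card_ge hIZ (by omega)) hne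
    · rw [he, mul_comm 2]
      exact Nat.mul_le_mul_left _ (by omega)
  have hkP := two_mul_card_conjClasses_eq hD.ne hD.der
  omega

/-- Modulo the centre not all involutions are conjugate. -/
theorem not_all_conj (hO : Cfsg.oddCore G = ⊥) (hD : DerTwo z)
    (hk : 2 * Nat.card (PClasses 2 G) = Nat.card (P : Subgroup G))
    (hzG : (z : G) ∉ center G) {x : (P : Subgroup G)} (hx2 : x * x = 1)
    (hxc : x ∉ center (P : Subgroup G))
    (h4 : 4 * Nat.card (center (P : Subgroup G)) = Nat.card (P : Subgroup G))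
    (h8 : 8 * Nat.card (center G) = Nat.card (P : Subgroup G)) :
    ¬ ∀ a b : G ⧸ center G, orderOf a = 2 → orderOf b = 2 → IsConj a b := by
  classical
  intro hall
  haveI : Fact (Nat.Prime 2) := ⟨Nat.prime_two⟩
  have hZP := center_le_sylow P hO
  set Z := center (P : Subgroup G) with hZ
  set I := ((center G).subgroupOf (P : Subgroup G)).subgroupOf Z with hI
  have hIZ : (center G).subgroupOf (P : Subgroup G) ≤ Z := fun w hw => mem_center_iff.2 fun b =>
    Subtype.ext (mem_center_iff.1 (mem_subgroupOf.1 hw) b)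
  have hI2 : I.index = 2 := by
    have h := I.index_mul_card
    rw [Nat.card_congr (subgroupOfEquivOfLe hIZ).toEquiv,
      Nat.card_congr (subgroupOfEquivOfLe hZP).toEquiv] at h
    have hpos := Nat.card_pos (α := center G)
    exact Nat.eq_of_mul_eq_mul_right hpos (show I.index * Nat.card (center G) = 2 * Nat.card (center G) by omega)
  set J : ↥(P : Subgroup G) → Prop := fun w => (w : G) ∈ center G
  have hJ : ∀ {a b : (P : Subgroup G)}, a ∈ Z → b ∈ Z → ¬ J a → ¬ J b → J (a * b) :=
    fun {a b} ha hb hna hnb => (mul_mem_iff_of_index_two hI2 (a := ⟨a, ha⟩) (b := ⟨b, hb⟩)).2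
      (iff_of_false hna hnb)
  have hsq : ∀ {a : (P : Subgroup G)}, a ∈ Z → J (a * a) := fun {a} ha => by
    by_cases h : J a
    · exact mul_mem (s := center G) h h
    · exact hJ ha ha h h
  set A := centralizer ({x} : Set (P : Subgroup G)) with hA
  have hA2 : A.index = 2 := hD.index_centralizer hxc
  have hAx : ∀ a, a ∈ A ↔ a * x = x * a := fun a => mem_centralizer_singleton_iff
  have hZA : ∀ {u}, u ∈ Z → u ∈ A := fun hu => (hAx _).2 (mem_center_iff.1 hu x).symm
  -- a second involution modulo the centre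
  obtain ⟨y, hy, hy2⟩ : ∃ y, y ∉ A ∧ J (y * y) := by
    obtain ⟨y0, hy0⟩ : ∃ y, y ∉ A := by
      by_contra h
      push Not at h
      rw [show A = ⊤ from eq_top_iff.2 fun w _ => h w, index_top] at hA2
      omega
    by_cases h : J (y0 * y0)
    · exact ⟨y0, hy0, h⟩
    have hconj : y0 * x * y0⁻¹ = z * x :=
      hD.eq_mul_of_conj_ne fun e => hy0 ((hAx y0).2 (mul_inv_eq_iff_eq_mul.1 e))
    refine ⟨x * y0, fun hc => hy0 ((mul_mem_iff_of_index_two hA2).1 hc |>.1 ((hAx x).2 rfl)), ?_⟩
    have e : x * y0 * (x * y0) = z * (y0 * y0) := by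
      calc x * y0 * (x * y0) = x * (y0 * x * y0⁻¹) * (y0 * y0) := by group
        _ = x * z * x * (y0 * y0) := by rw [hconj]; group
        _ = z * (y0 * y0) := by rw [hD.commute, mul_assoc z, hx2, mul_one]
    rw [e]
    exact hJ hD.mem_center (hD.sq_mem_center y0) hzG h
  let π := QuotientGroup.mk' (center G)
  have hπ2 : ∀ w : (P : Subgroup G), w ∉ Z → J (w * w) → orderOf (π w) = 2 := fun w hw hw2 => by
    refine orderOf_eq_prime ?_ fun h => hw (hIZ (mem_subgroupOf.2
      ((QuotientGroup.eq_one_iff _).1 h)))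
    rw [pow_two, ← map_mul]
    exact (QuotientGroup.eq_one_iff _).2 hw2
  have hπz : orderOf (π z) = 2 := by
    refine orderOf_eq_prime ?_ fun h => hzG ((QuotientGroup.eq_one_iff _).1 h)
    rw [pow_two, ← map_mul, ← Subgroup.coe_mul, hD.mul_self, Subgroup.coe_one, map_one]
  -- every element of `x Z ∪ y Z` is fused to `Z`
  let S : Finset (P : Subgroup G) :=
    haveI := Fintype.ofFinite (P : Subgroup G)
    Finset.univ.filter fun w => x⁻¹ * w ∈ Z ∨ y⁻¹ * w ∈ Z
  have hSmem : ∀ w, w ∈ S ↔ (x⁻¹ * w ∈ Z ∨ y⁻¹ * w ∈ Z) := fun w => by simp [S]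
  have hyc : y ∉ Z := fun h => hy (hZA h)
  have hSZ : ∀ w ∈ S, w ∉ Z ∧ J (w * w) := by
    intro w hw
    have key : ∀ v : (P : Subgroup G), v ∉ Z → J (v * v) → v⁻¹ * w ∈ Z → w ∉ Z ∧ J (w * w) := by
      intro v hv hv2 hu
      refine ⟨fun h => hv ?_, ?_⟩
      · have := mul_mem h (inv_mem hu)
        rwa [mul_inv_rev, inv_inv, mul_inv_cancel_left] at this
      · have e : w * w = v * v * ((v⁻¹ * w) * (v⁻¹ * w)) := by
          calc w * w = v * ((v⁻¹ * w) * v) * (v⁻¹ * w) := by group
            _ = v * v * ((v⁻¹ * w) * (v⁻¹ * w)) := by rw [← mem_center_iff.1 hu v]; group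
        rw [e]
        exact mul_mem (s := center G) hv2 (hsq hu)
    rcases (hSmem w).1 hw with h | h
    · exact key x hxc (by show (((x * x : (P : Subgroup G))) : G) ∈ center G; rw [hx2]; exact one_mem _) h
    · exact key y hyc hy2 h
  let R : Set (ConjClasses (P : Subgroup G)) := ↑(S.image ConjClasses.mk)
  have hR := card_add_ncard_le (P := P) R ?_
  swap
  · intro C hC
    obtain ⟨w, hw, rfl⟩ := Finset.mem_image.1 (Finset.mem_coe.1 hC)
    obtain ⟨hwZ, hw2⟩ := hSZ w hw
    obtain ⟨q, hq⟩ := isConj_iff.1 (hall _ _ (hπ2 w hwZ hw2) hπz)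
    obtain ⟨g, rfl⟩ := QuotientGroup.mk'_surjective (center G) q
    rw [← map_inv, ← map_mul, ← map_mul] at hq
    have hi : (g * (w : G) * g⁻¹)⁻¹ * z ∈ center G := QuotientGroup.eq.1 hq
    have he : g * (w : G) * g⁻¹ = z * ((g * (w : G) * g⁻¹)⁻¹ * z)⁻¹ := by group
    have hvP : g * (w : G) * g⁻¹ ∈ (P : Subgroup G) := by
      rw [he]; exact mul_mem z.2 (inv_mem (hZP hi))
    have hvZ : (⟨_, hvP⟩ : (P : Subgroup G)) ∈ Z := by
      rw [show (⟨_, hvP⟩ : (P : Subgroup G)) = z * ⟨_, inv_mem (hZP hi)⟩ from Subtype.ext he]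
      exact mul_mem hD.mem_center (hIZ (mem_subgroupOf.2 (inv_mem hi)))
    refine ⟨ConjClasses.mk ⟨_, hvP⟩, fun h => ?_, toCls_mk_eq_iff.2 (isConj_iff.2 ⟨g, rfl⟩).symm⟩
    obtain ⟨w', hw', hww⟩ := Finset.mem_image.1 (Finset.mem_coe.1 h)
    exact (hSZ w' hw').1 (isConj_eq_of_center (ConjClasses.mk_eq_mk_iff_isConj.1 hww) hvZ ▸ hvZ)
  have hScard : S.card = 2 * Nat.card Z := by
    haveI := Fintype.ofFinite (P : Subgroup G)
    let e : Z ⊕ Z → S := Sum.elim
      (fun u => ⟨x * u, (hSmem _).2 (Or.inl (by rw [inv_mul_cancel_left]; exact u.2))⟩)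
      (fun u => ⟨y * u, (hSmem _).2 (Or.inr (by rw [inv_mul_cancel_left]; exact u.2))⟩)
    have he : Function.Bijective e := by
      constructor
      · rintro (a | a) (b | b) h <;> replace h := congrArg Subtype.val h <;>
          simp only [e, Sum.elim_inl, Sum.elim_inr] at h
        · exact congrArg _ (Subtype.ext (mul_left_cancel h))
        · refine absurd ?_ hy
          have h' : y = x * a * (b : (P : Subgroup G))⁻¹ := by rw [h, mul_inv_cancel_right]
          rw [h']
          exact mul_mem (mul_mem ((hAx x).2 rfl) (hZA a.2)) (inv_mem (hZA b.2))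
        · refine absurd ?_ hy
          have h' : y = x * b * (a : (P : Subgroup G))⁻¹ := by rw [← h, mul_inv_cancel_right]
          rw [h']
          exact mul_mem (mul_mem ((hAx x).2 rfl) (hZA b.2)) (inv_mem (hZA a.2))
        · exact congrArg _ (Subtype.ext (mul_left_cancel h))
      · rintro ⟨w, hw⟩
        rcases (hSmem w).1 hw with h | h
        · exact ⟨Sum.inl ⟨_, h⟩, Subtype.ext (mul_inv_cancel_left x w)⟩
        · exact ⟨Sum.inr ⟨_, h⟩, Subtype.ext (mul_inv_cancel_left y w)⟩
    rw [← Nat.card_eq_finsetCard, ← Nat.card_congr (Equiv.ofBijective e he), Nat.card_sum]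
    omega
  have hfib : S.card ≤ 2 * (S.image ConjClasses.mk).card := by
    refine Finset.card_le_mul_card_image S 2 fun C hC => ?_
    obtain ⟨w, hw, rfl⟩ := Finset.mem_image.1 hC
    refine le_trans (Finset.card_le_card (t := {w, z * w}) fun v hv => ?_) Finset.card_le_two
    simp only [Finset.mem_filter, ConjClasses.mk_eq_mk_iff_isConj] at hv
    obtain ⟨c, hc⟩ := isConj_iff.1 hv.2.symm
    rw [Finset.mem_insert, Finset.mem_singleton, ← hc]
    exact hD.conj_cases c w
  have hIpos := Nat.card_pos (α := center G)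
  have hRcard : R.ncard = (S.image ConjClasses.mk).card := Set.ncard_coe_finset _
  have hkP := two_mul_card_conjClasses_eq hD.ne hD.der
  rw [← hZ] at hkP
  omega

end CfsgLib.TwoClassHalf
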