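import Cfsg.Agent.Lib.TwoClassHalf.Involution
import Cfsg.Agent.Lib.TwoClassHalf.Endgame

/-!
# Groups with exactly `|P| / 2` classes of 2-elements

`G / Z(G)` is `A₄`, `S₄` or has a linear socle with four-groups as Sylow 2-subgroups.
-/

set_option autoImplicit false

namespace CfsgLib.TwoClassHalf

open Subgroup CfsgLib.ManyPiClasses
open scoped commutatorElement

universe u

variable {G : Type u} [Group G] [Finite G]

/-- The quotient by the centre has trivial core. -/
theorem oddCore_quotient_center (hO : Cfsg.oddCore G = ⊥) (P : Sylow 2 G) :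
    Cfsg.oddCore (G ⧸ center G) = ⊥ := by
  haveI : Fact (Nat.Prime 2) := ⟨Nat.prime_two⟩
  set O := Cfsg.oddCore (G ⧸ center G) with hOdef
  set N := O.comap (QuotientGroup.mk' (center G)) with hN
  haveI : O.Normal := by rw [hOdef]; infer_instance
  haveI : N.Normal := by rw [hN]; infer_instance
  have hodd : (Nat.card O).Coprime 2 := CfsgLib.Core.coprime_card_pPrimeCore 2 _
  have hZN : center G ≤ N := fun z hz => by
    rw [hN, Subgroup.mem_comap, QuotientGroup.mk'_apply, (QuotientGroup.eq_one_iff z).2 hz]
    exact one_mem _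
  have hcard : Nat.card N = Nat.card (center G) * Nat.card O := by
    rw [hN, CfsgLib.Core.card_comap_mk']
  obtain ⟨t, ht⟩ := IsPGroup.iff_card.1 (P.isPGroup'.to_le (center_le_sylow P hO))
  set Z' := (center G).subgroupOf N
  have hZ'c : Nat.card Z' = Nat.card (center G) :=
    Nat.card_congr (subgroupOfEquivOfLe hZN).toEquiv
  have hidx : Z'.index = Nat.card O := by
    have h := Z'.card_mul_index
    rw [hZ'c, hcard] at h
    exact Nat.eq_of_mul_eq_mul_left Nat.card_pos h
  obtain ⟨C, hC⟩ := Subgroup.exists_right_complement'_of_coprime (N := Z') (by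
    rw [hidx, hZ'c, ht]
    exact (Nat.Coprime.pow_right t hodd).symm)
  have hCcard : Nat.card C = Nat.card O := by
    rw [← hC.symm.index_eq_card, hidx]
  have hcent : ∀ c ∈ Z', ∀ w : N, w * c = c * w := fun c hc w =>
    Subtype.ext (mem_center_iff.1 (mem_subgroupOf.1 hc) w)
  haveI : C.Normal := ⟨fun c hc w => by
    obtain ⟨⟨⟨a, ha⟩, ⟨b, hb⟩⟩, rfl⟩ := hC.2 w
    show a * b * c * (a * b)⁻¹ ∈ C
    rw [show a * b * c * (a * b)⁻¹ = a * (b * c * b⁻¹) * a⁻¹ by group,
      ← hcent a ha, mul_inv_cancel_right]
    exact mul_mem (mul_mem hb hc) (inv_mem hb)⟩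
  have hle : C ≤ Cfsg.oddCore N := CfsgLib.Core.le_pPrimeCore (by rw [hCcard]; exact hodd)
  have hmap := CfsgLib.Core.map_subtype_pPrimeCore_le (p := 2) N
  rw [show Cfsg.pPrimeCore 2 G = ⊥ from hO, le_bot_iff,
    map_eq_bot_iff_of_injective _ N.subtype_injective] at hmap
  refine Subgroup.eq_bot_of_card_eq _ ?_
  rw [← hCcard, show C = ⊥ from le_bot_iff.1 (hle.trans hmap.le), card_bot]

/-- If `G / Z(G)` is a `2`-group, so is `G`. -/
theorem eq_top_of_quotient (hO : Cfsg.oddCore G = ⊥) (P : Sylow 2 G)
    (h : IsPGroup 2 (G ⧸ center G)) : (P : Subgroup G) = ⊤ := by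
  haveI : Fact (Nat.Prime 2) := ⟨Nat.prime_two⟩
  obtain ⟨a, ha⟩ := IsPGroup.iff_card.1 h
  obtain ⟨b, hb⟩ := IsPGroup.iff_card.1 (P.isPGroup'.to_le (center_le_sylow P hO))
  have hG : IsPGroup 2 G := IsPGroup.of_card (n := b + a) (by
    rw [← (center G).card_mul_index, hb, index_eq_card, ha, pow_add])
  exact (P.is_maximal' (hG.to_subgroup ⊤) le_top).symm

/-- The image of `P` modulo the centre. -/
theorem card_map_sylow (hO : Cfsg.oddCore G = ⊥) (P : Sylow 2 G) :
    Nat.card ((P : Subgroup G).map (QuotientGroup.mk' (center G))) * Nat.card (center G) =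
      Nat.card (P : Subgroup G) := by
  set f := (QuotientGroup.mk' (center G)).comp (P : Subgroup G).subtype
  have hr : f.range = (P : Subgroup G).map (QuotientGroup.mk' (center G)) := by
    rw [MonoidHom.range_comp, range_subtype]
  have hk : f.ker = (center G).subgroupOf (P : Subgroup G) := by
    rw [← MonoidHom.comap_ker, QuotientGroup.ker_mk', subgroupOf]
  rw [← hr, ← index_ker, hk, ← Nat.card_congr (subgroupOfEquivOfLe (center_le_sylow P hO)).toEquiv,
    index_mul_card]

/-- S3896. -/
theorem main (P : Sylow 2 G) (hO : Cfsg.oddCore G = ⊥)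
    (hk : 2 * Nat.card (PClasses 2 G) = Nat.card (P : Subgroup G)) :
    Concl (G ⧸ center G) := by
  haveI : Fact (Nat.Prime 2) := ⟨Nat.prime_two⟩
  have hOK := oddCore_quotient_center hO P
  let T := P.mapSurjective (QuotientGroup.mk'_surjective (center G))
  have hTc : Nat.card (T : Subgroup (G ⧸ center G)) * Nat.card (center G) =
      Nat.card (P : Subgroup G) := by
    rw [Sylow.coe_mapSurjective]
    exact card_map_sylow hO P
  have hzpos := Nat.card_pos (α := center G)
  obtain ⟨t, ht⟩ := IsPGroup.iff_card.1 P.isPGroup'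
  have hcc := card_pClasses_le P
  have hbound := four_mul_card_conjClasses_le (G := (P : Subgroup G))
  have hmul := (commutator (P : Subgroup G)).index_mul_card
  obtain ⟨d, -, hd⟩ := (Nat.dvd_prime_pow Nat.prime_two).1
    (ht ▸ card_subgroup_dvd_card (commutator (P : Subgroup G)))
  rcases d with _ | _ | d
  · -- abelian
    rw [pow_zero, card_eq_one] at hd
    have hab : ∀ a b : (P : Subgroup G), a * b = b * a := fun a b => by
      have := commutator_mem_commutator (mem_top a) (mem_top b)
      rw [← _root_.commutator_def, hd, mem_bot] at this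
      exact commutatorElement_eq_one_iff_mul_comm.1 this
    have h4 := abelian_case hO hk hab
    refine four_end hOK (fun h => ?_) T ?_
    · have htop := eq_top_of_quotient hO P h
      have hle : (P : Subgroup G) ≤ center G := fun a _ => mem_center_iff.2 fun g =>
        congrArg Subtype.val (hab ⟨g, htop ▸ mem_top g⟩ ⟨a, htop ▸ mem_top a⟩)
      have h5 := card_le_of_le hle
      omega
    · exact Nat.eq_of_mul_eq_mul_right hzpos (hTc.trans h4.symm)
  · -- derived subgroup of order two
    rw [pow_one] at hd
    haveI hfin : Finite (commutator (P : Subgroup G)) := inferInstance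
    obtain ⟨⟨z, hzm⟩, hz1⟩ : ∃ z : commutator (P : Subgroup G), z ≠ 1 := by
      by_contra hcon
      push Not at hcon
      haveI : Subsingleton (commutator (P : Subgroup G)) :=
        ⟨fun p q => (hcon p).trans (hcon q).symm⟩
      rw [Nat.card_unique] at hd
      omega
    have htwo : ∀ w ∈ commutator (P : Subgroup G), w = 1 ∨ w = z := fun w hw => by
      haveI := Fintype.ofFinite (commutator (P : Subgroup G))
      by_contra hcon
      push Not at hcon
      classical
      have hne1 : (1 : commutator (P : Subgroup G)) ≠ ⟨w, hw⟩ := fun e =>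
        hcon.1 (congrArg Subtype.val e).symm
      have hne2 : (⟨w, hw⟩ : commutator (P : Subgroup G)) ≠ ⟨z, hzm⟩ := fun e =>
        hcon.2 (congrArg Subtype.val e)
      have h3 := Finset.card_le_univ
        ({1, ⟨w, hw⟩, ⟨z, hzm⟩} : Finset (commutator (P : Subgroup G)))
      rw [Finset.card_eq_three.2 ⟨_, _, _, hne1, Ne.symm hz1, hne2, rfl⟩,
        ← Nat.card_eq_fintype_card, hd] at h3
      omega
    have hder : ∀ a b : (P : Subgroup G), ⁅a, b⁆ = 1 ∨ ⁅a, b⁆ = z := fun a b =>
      htwo _ (by
        rw [_root_.commutator_def]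
        exact commutator_mem_commutator (mem_top a) (mem_top b))
    have hD : DerTwo z := by
      refine ⟨fun e => hz1 (Subtype.ext e), hder, ?_⟩
      by_contra hcon
      push Not at hcon
      have hbot : commutator (P : Subgroup G) = ⊥ := by
        rw [eq_bot_iff, _root_.commutator_def, commutator_le]
        exact fun a _ b _ => mem_bot.2 ((hder a b).resolve_right (hcon a b))
      rw [hbot, card_bot] at hd
      omega
    have hzG := not_mem_center hD hk
    obtain ⟨x, hzx, hx2, hxc, hab⟩ := exists_partner hO hD hzG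
    have h4 := four_mul_card_center_eq hD hxc hab
    have h8 := eight_mul_card_center hO hD hk hzG h4 (center_fixed hD hk hzx hxc h4)
    refine eight_end hOK (fun h => ?_) T ?_ ?_ (not_all_conj hO hD hk hzG hx2 hxc h4 h8)
    · have htop := eq_top_of_quotient hO P h
      exact hzG (mem_center_iff.2 fun g =>
        congrArg Subtype.val (hD.commute ⟨g, htop ▸ mem_top g⟩))
    · exact Nat.eq_of_mul_eq_mul_right hzpos (hTc.trans h8.symm)
    · obtain ⟨a, ha⟩ := exists_conj_eq_mul hD.der hxc
      let π := QuotientGroup.mk' (center G)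
      have hmem : ∀ w : (P : Subgroup G), π w ∈ (T : Subgroup (G ⧸ center G)) := fun w => by
        rw [Sylow.coe_mapSurjective]
        exact mem_map_of_mem _ w.2
      refine ⟨⟨π x, hmem x⟩, Subtype.ext ?_, fun hc => hzG ?_⟩
      · show π x * π x = 1
        rw [← map_mul, ← Subgroup.coe_mul, hx2, Subgroup.coe_one, map_one]
      · have h1 : π a * π x = π x * π a := congrArg Subtype.val (mem_center_iff.1 hc ⟨π a, hmem a⟩)
        have h2 : π ((a * x * a⁻¹ : (P : Subgroup G)) : G) = π x := by
          simp only [Subgroup.coe_mul, Subgroup.coe_inv, map_mul, map_inv]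
          exact mul_inv_eq_iff_eq_mul.2 h1
        rw [ha, Subgroup.coe_mul, map_mul, mul_eq_right] at h2
        exact (QuotientGroup.eq_one_iff _).1 h2
  · -- a derived subgroup of order at least four leaves too few classes
    exfalso
    have h4 : 4 ≤ 2 ^ (d + 2) := by
      rw [pow_add]
      have := Nat.one_le_two_pow (n := d)
      omega
    have h5 := Nat.mul_le_mul_left (commutator (P : Subgroup G)).index h4
    rw [← hd, hmul] at h5
    have hpos := Nat.card_pos (α := (P : Subgroup G))
    omega

end CfsgLib.TwoClassHalf
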